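import Groth.Agent.Lib.Ver21.Canon
import Groth.Agent.Lib.GrLC21.CanonExist
import Groth.Agent.Lib.GrLC21.CanonLocal
import Groth.Agent.Lib.GrLC21.AInv
import Groth.Agent.Lib.GrLC21.CMCrit
import Groth.Agent.Lib.GrLC21.StarCM
import Groth.Agent.Lib.GrLC21.CanonDeg
import Groth.Agent.Lib.GrLC21.KillDepth
import Groth.Agent.Lib.VarDim.Alg
import Groth.Agent.Lib.Goren.Basic

/-!
# Gorenstein Veronese subrings
-/

universe u

open DirectSum
open Groth.Agent.GrLC21

noncomputable section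

set_option linter.unusedSectionVars false
set_option backward.isDefEq.respectTransparency false

namespace Groth.Agent.GrLC21

variable {R : Type u} [CommRing R] {𝒜 : ℤ → AddSubgroup R} [GradedRing 𝒜]

theorem pos_of_bot (hpos : ∀ n : ℤ, n < 0 → 𝒜 n = ⊥) : ∀ n : ℤ, n < 0 → ∀ r ∈ 𝒜 n, r = 0 :=
  fun n hn r hr => (AddSubgroup.mem_bot).1 (hpos n hn ▸ hr)

/-- The irrelevant ideal is the *maximal ideal. -/
theorem exists_starMax (hpos : ∀ n : ℤ, n < 0 → ∀ r ∈ 𝒜 n, r = 0) (h0 : IsField (GrLC.deg0 𝒜)) :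
    ∃ m : HomogeneousIdeal 𝒜, GrLC.IsStarLocal 𝒜 m ∧
      m.toIdeal = Ideal.span (⋃ n ∈ Set.Ioi (0 : ℤ), (𝒜 n : Set R)) := by
  let m : HomogeneousIdeal 𝒜 := ⟨Ideal.span (⋃ n ∈ Set.Ioi (0 : ℤ), (𝒜 n : Set R)),
    Ideal.homogeneous_span 𝒜 _ fun x hx => by
      simp only [Set.mem_iUnion, SetLike.mem_coe, exists_prop] at hx
      obtain ⟨n, -, hx⟩ := hx
      exact ⟨n, hx⟩⟩
  refine ⟨m, ?_, rfl⟩
  have hne : m ≠ ⊤ := fun h => by
    have h1 : (1 : R) ∈ m.toIdeal := by rw [h, HomogeneousIdeal.toIdeal_top]; trivial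
    have h2 := proj_eq_zero_of_mem_pos hpos rfl h1 le_rfl
    rw [GrLC21.proj_of_mem 𝒜 SetLike.GradedOne.one_mem] at h2
    obtain ⟨x, y, hxy⟩ := h0.exists_pair_ne
    exact hxy (Subtype.ext (by rw [← one_mul (x : R), ← one_mul (y : R), h2, zero_mul, zero_mul]))
  have hle : ∀ J : HomogeneousIdeal 𝒜, J ≠ ⊤ → J ≤ m := by
    intro J hJ x hx
    rw [← sum_proj 𝒜 x]
    refine Ideal.sum_mem _ fun g _ => ?_
    have hg : proj 𝒜 g x ∈ J.toIdeal := J.isHomogeneous g hx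
    rcases lt_trichotomy g 0 with h | rfl | h
    · rw [hpos g h _ (proj_mem 𝒜 g x)]; exact Ideal.zero_mem _
    · by_cases hz : proj 𝒜 0 x = 0
      · rw [hz]; exact Ideal.zero_mem _
      refine absurd (HomogeneousIdeal.ext ?_) hJ
      obtain ⟨c, hc⟩ := h0.mul_inv_cancel (a := ⟨proj 𝒜 0 x, proj_mem 𝒜 0 x⟩) fun e => hz (congrArg Subtype.val e)
      rw [HomogeneousIdeal.toIdeal_top, Ideal.eq_top_iff_one, ← show proj 𝒜 0 x * (c : R) = 1 from congrArg Subtype.val hc]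
      exact Ideal.mul_mem_right _ _ hg
    · exact Ideal.subset_span (Set.mem_iUnion₂.2 ⟨g, h, proj_mem 𝒜 g x⟩)
  have hco : IsCoatom m := ⟨hne, fun J hJ => by_contra fun h => hJ.not_ge (hle J h)⟩
  refine ⟨hco, fun n hn => ?_⟩
  rcases (hle n hn.1).lt_or_eq with h | h
  · exact absurd (hn.2 m h) hne
  · exact h

theorem isCohenMacaulayRing_of_gorenstein [LocCoh.IsGorensteinRing R] : LocCoh.IsCohenMacaulayRing R :=
  { isCohenMacaulayLocalRing_localization := fun p _ => by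
      have := LocCoh.IsGorensteinRing.isGorensteinLocalRing_localization (A := R) p
      exact GorenLib.isCohenMacaulayLocalRing_of_gorenstein }

variable {m : HomogeneousIdeal 𝒜} {C : Type u} [AddCommGroup C] [Module R C] {τ : Type u} [SetLike τ C]
  [AddSubgroupClass τ C] {𝒞 : ℤ → τ} [Decomposition 𝒞] [SetLike.GradedSMul 𝒜 𝒞]

/-- A bijective map of degree `d` maps pieces onto pieces. -/
theorem exists_preimage_of_deg {f : R →ₗ[R] C} (hf : Function.Bijective f) {d : ℤ}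
    (hfd : GrLC.IsGrHomDeg 𝒜 𝒞 f d) {i : ℤ} {c : C} (hc : c ∈ 𝒞 i) : ∃ r ∈ 𝒜 (i - d), f r = c := by
  obtain ⟨r, rfl⟩ := hf.2 c
  refine ⟨proj 𝒜 (i - d) r, proj_mem 𝒜 _ r, ?_⟩
  have key : f (proj 𝒜 (i - d) r) = proj 𝒞 i (f r) := by
    refine spans_induction (spans_of_decomposition 𝒜) r (by simp) (fun a b ha hb => by simp only [map_add, ha, hb])
      fun l a ha => ?_
    rcases eq_or_ne l (i - d) with rfl | hl
    · rw [proj_of_mem 𝒜 ha]
      have := hfd _ a ha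
      rw [sub_add_cancel] at this
      rw [proj_of_mem 𝒞 this]
    · rw [proj_of_mem_ne 𝒜 ha hl, map_zero, proj_of_mem_ne 𝒞 (hfd l a ha) (fun e => hl (by omega))]
  rw [key, proj_of_mem 𝒞 hc]

end Groth.Agent.GrLC21

namespace Groth.Agent.Ver21

variable {R : Type u} [CommRing R] {𝒜 : ℤ → AddSubgroup R} [GradedRing 𝒜]
  {R' : Type u} [CommRing R'] {𝒜' : ℤ → AddSubgroup R'} [GradedRing 𝒜']
  {φ : R' →+* R} {q : ℕ} {m : HomogeneousIdeal 𝒜} {m' : HomogeneousIdeal 𝒜'}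

include φ in
/-- The Veronese subring has the same dimension. -/
theorem VData.ringKrullDim_eq (V : VData 𝒜 𝒜' φ q) (hpos : ∀ n : ℤ, n < 0 → ∀ r ∈ 𝒜 n, r = 0) :
    ringKrullDim R' = ringKrullDim R := by
  letI := φ.toAlgebra
  have : Algebra.IsIntegral R' R := ⟨fun x => by
    refine spans_induction (P := fun x => IsIntegral R' x) (spans_of_decomposition 𝒜) x isIntegral_zero
      (fun a b ha hb => ha.add hb) fun d a ha => ?_
    refine IsIntegral.of_pow V.qpos ?_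
    have h : a ^ q ∈ 𝒜 (d * q) := by
      have := SetLike.pow_mem_graded q ha
      rwa [nsmul_eq_mul, mul_comm] at this
    obtain ⟨r, -, e⟩ := (V.deg d _).1 h
    exact e ▸ isIntegral_algebraMap⟩
  exact (VarDim.ringKrullDim_eq_of_isIntegral (R := R') (S := R) V.inj).symm

include φ in
/-- The Veronese subring of a Cohen-Macaulay ring is Cohen-Macaulay. -/
theorem VCtx.isCohenMacaulayRing [LocCoh.IsCohenMacaulayRing R] (C : VCtx 𝒜 𝒜' φ q m m')
    (hm : GrLC.IsStarLocal 𝒜 m) (hm' : GrLC.IsStarLocal 𝒜' m') (Γ' : FieldCtx 𝒜' m') {n : ℕ}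
    (hn : ringKrullDim R = n) : LocCoh.IsCohenMacaulayRing R' := by
  have := C.vdata.isNoetherianRing
  let g₀ : R' →ₛₗ[φ] R := { toFun := φ, map_add' := map_add φ, map_smul' := fun r x => map_mul φ r x }
  have W₀ : VMod 𝒜 𝒜' q g₀ := ⟨C.vdata.inj, C.vdata.deg⟩
  rw [isCohenMacaulayRing_iff]
  refine (cm_iff_van Γ'.pos hm' 𝒜' (d := n) ?_).2 fun i hi g => ?_
  · rw [Module.supportDim_self_eq_ringKrullDim, C.vdata.ringKrullDim_eq C.pos, hn]
  · exact (C.van_iff W₀ i g).2 (van_self_of_ne C.pos hm hn hi _)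

variable {M' : Type u} [AddCommGroup M'] [Module R' M'] {ℳ' : ℤ → AddSubgroup M'} [Decomposition ℳ']
  [SetLike.GradedSMul 𝒜' ℳ'] {E' : GrLC.GMod.{u} 𝒜'} {e' : (R' ⧸ m'.toIdeal) →ₗ[R'] E'.carrier}
  {n : ℕ} {I : GrLC.StarInjRes 𝒜 𝒜} {I' : GrLC.StarInjRes 𝒜' 𝒜'}

include φ in
/-- Over a Gorenstein ring the *canonical module of a Veronese subring is a Veronese submodule of a shift
of the ring itself. -/
theorem VCtx.exists_shift_ver [LocCoh.IsGorensteinRing R] (C : VCtx 𝒜 𝒜' φ q m m') (Γ : FieldCtx 𝒜 m)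
    (hm' : GrLC.IsStarLocal 𝒜' m') (hn : ringKrullDim R = n) {a : ℤ}
    (ha : GrLC.endDeg (I.Hgr m n) = ((a : WithTop ℤ) : WithBot (WithTop ℤ)))
    (he' : GrLC.IsStarInjHull 𝒜' (GrLC.quotGr 𝒜' m') E'.gr e')
    (hC' : GrLC.IsStarCanonical 𝒜' ℳ' E'.gr m' n I') :
    ∃ h : M' →ₛₗ[φ] R, Function.Injective h ∧ ∀ j : ℤ, (ℳ' j).map (h : M' →+ R) = 𝒜 (a + j * q) := by
  haveI := isCohenMacaulayRing_of_gorenstein (R := R)
  obtain ⟨E, e, he⟩ := exists_residue_hull (𝒜 := 𝒜) m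
  obtain ⟨K, hK⟩ := Γ.exists_canonical he n I
  obtain ⟨d, f, hf, hfd⟩ := (Γ.gorenstein_iff_shift he hn hK).1 inferInstance
  have hd : d = -a := Γ.shift_eq_neg he hK ha hf hfd
  subst hd
  obtain ⟨g, W⟩ := C.exists_semilinear_canonical Γ hm' he hK he' hC'
  let f' := LinearEquiv.ofBijective f hf
  refine ⟨f'.symm.toLinearMap.comp g, f'.symm.injective.comp W.inj, fun j => ?_⟩
  ext x
  constructor
  · rintro ⟨y, hy, rfl⟩
    obtain ⟨r, hr, hrc⟩ := exists_preimage_of_deg hf hfd (W.map_mem hy)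
    rw [sub_neg_eq_add, add_comm] at hr
    show f'.symm (g y) ∈ 𝒜 (a + j * q)
    rw [← hrc, show f r = f' r from rfl, LinearEquiv.symm_apply_apply]
    exact hr
  · intro hx
    have h1 : f x ∈ K.gr (j * q) := by
      have := hfd _ x hx
      rwa [show a + j * q + -a = j * q by ring] at this
    obtain ⟨y, hy, hgy⟩ := (W.deg j _).1 h1
    refine ⟨y, hy, ?_⟩
    show f'.symm (g y) = x
    rw [hgy, show f x = f' x from rfl, LinearEquiv.symm_apply_apply]

include φ in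
/-- `q ∣ a(R)` makes the Veronese subring Gorenstein. -/
theorem VCtx.gorenstein_of_dvd [LocCoh.IsGorensteinRing R] (C : VCtx 𝒜 𝒜' φ q m m') (Γ : FieldCtx 𝒜 m)
    (hm' : GrLC.IsStarLocal 𝒜' m') (hn : ringKrullDim R = n) {a : ℤ}
    (ha : GrLC.endDeg (I.Hgr m n) = ((a : WithTop ℤ) : WithBot (WithTop ℤ))) (hdvd : (q : ℤ) ∣ a) :
    LocCoh.IsGorensteinRing R' := by
  haveI := isCohenMacaulayRing_of_gorenstein (R := R)
  have V := C.vdata
  have Γ' := V.fieldCtx Γ hm'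
  haveI := V.isNoetherianRing
  haveI := C.isCohenMacaulayRing Γ.starLocal hm' Γ' hn
  have hn' : ringKrullDim R' = n := (V.ringKrullDim_eq C.pos).trans hn
  obtain ⟨I'⟩ := nonempty_res (𝒜 := 𝒜') 𝒜'
  obtain ⟨E', e', he'⟩ := exists_residue_hull (𝒜 := 𝒜') m'
  obtain ⟨K', hK'⟩ := Γ'.exists_canonical he' n I'
  obtain ⟨h, hinj, hdeg⟩ := C.exists_shift_ver Γ hm' hn ha he' hK'
  obtain ⟨c, rfl⟩ := hdvd
  obtain ⟨y₀, hy₀, hy₀'⟩ : (1 : R) ∈ (K'.gr (-c)).map (h : K'.carrier →+ R) := by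
    rw [hdeg, show (q : ℤ) * c + -c * q = 0 by ring]
    exact SetLike.GradedOne.one_mem
  let F : R' →ₗ[R'] K'.carrier := LinearMap.toSpanSingleton R' K'.carrier y₀
  have hF : ∀ r, h (F r) = φ r := fun r => by
    show h (r • y₀) = φ r
    rw [map_smulₛₗ h, show h y₀ = (1 : R) from hy₀', smul_eq_mul, mul_one]
  refine (Γ'.gorenstein_iff_shift he' hn' hK').2 ⟨-c, F, ⟨fun x y hxy => V.inj (by rw [← hF, ← hF, hxy]), fun y => ?_⟩,
    fun g r hr => GrLC21.smul_mem 𝒜' K'.gr hr hy₀⟩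
  refine spans_induction (P := fun y => ∃ r, F r = y) (spans_of_decomposition K'.gr) y ⟨0, map_zero F⟩
    (fun a b ha hb => by obtain ⟨r, rfl⟩ := ha; obtain ⟨s, rfl⟩ := hb; exact ⟨r + s, map_add F r s⟩) fun j b hb => ?_
  have h1 : h b ∈ 𝒜 ((c + j) * q) := by
    rw [add_mul, mul_comm c, ← hdeg j]
    exact ⟨b, hb, rfl⟩
  obtain ⟨r, -, hr⟩ := (V.deg (c + j) (h b)).1 h1
  exact ⟨r, hinj (by rw [hF, hr])⟩

include φ in
/-- A Gorenstein Veronese subring forces the remainder piece to be a line. -/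
theorem VCtx.finrank_rem_le_one [LocCoh.IsGorensteinRing R] [LocCoh.IsGorensteinRing R']
    (C : VCtx 𝒜 𝒜' φ q m m') (Γ : FieldCtx 𝒜 m)
    (hm' : GrLC.IsStarLocal 𝒜' m') (hn : ringKrullDim R = n) {a : ℤ}
    (ha : GrLC.endDeg (I.Hgr m n) = ((a : WithTop ℤ) : WithBot (WithTop ℤ)))
    {ρ : ℤ} (hρ0 : 0 ≤ ρ) (hρq : ρ < q) (hρa : (q : ℤ) ∣ a - ρ) :
    Module.finrank (GrLC.deg0 𝒜) (GrLC.comp 𝒜 𝒜 ρ) ≤ 1 := by
  haveI := isCohenMacaulayRing_of_gorenstein (R := R)
  have V := C.vdata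
  have Γ' := V.fieldCtx Γ hm'
  haveI := V.isNoetherianRing
  haveI := isCohenMacaulayRing_of_gorenstein (R := R')
  have hn' : ringKrullDim R' = n := (V.ringKrullDim_eq C.pos).trans hn
  obtain ⟨I'⟩ := nonempty_res (𝒜 := 𝒜') 𝒜'
  obtain ⟨E', e', he'⟩ := exists_residue_hull (𝒜 := 𝒜') m'
  obtain ⟨K', hK'⟩ := Γ'.exists_canonical he' n I'
  obtain ⟨h, hinj, hdeg⟩ := C.exists_shift_ver Γ hm' hn ha he' hK'
  obtain ⟨d, F, hF, hFd⟩ := (Γ'.gorenstein_iff_shift he' hn' hK').1 inferInstance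
  obtain ⟨c, hc⟩ := hρa
  let _ := Γ.isField.toField
  have hy₀ : F 1 ∈ K'.gr d := by
    have := hFd 0 1 SetLike.GradedOne.one_mem
    rwa [zero_add] at this
  have hx₀ : h (F 1) ∈ 𝒜 (a + d * q) := hdeg d ▸ ⟨_, hy₀, rfl⟩
  refine finrank_le_one (⟨proj 𝒜 ρ (h (F 1)), proj_mem 𝒜 ρ _⟩ : GrLC.comp 𝒜 𝒜 ρ) fun w => ?_
  have hw : (w : R) ∈ 𝒜 (a + (-c) * q) := by
    rw [show a + -c * (q : ℤ) = ρ by linarith]
    exact w.2
  rw [← hdeg] at hw
  obtain ⟨y, hy, hyw⟩ := hw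
  obtain ⟨r, hr, hry⟩ := exists_preimage_of_deg hF hFd hy
  have hw' : (w : R) = φ r * h (F 1) := by
    rw [← hyw, ← smul_eq_mul, ← map_smulₛₗ h, ← map_smul F, smul_eq_mul, mul_one, hry]
    rfl
  by_cases hw0 : (w : R) = 0
  · exact ⟨0, Subtype.ext (by simp [hw0])⟩
  have hcd : -c - d = 0 := by
    have hnn : 0 ≤ -c - d := by
      by_contra hlt
      exact hw0 (by rw [hw', Γ'.pos _ (by omega) r hr, map_zero, zero_mul])
    have hnn' : 0 ≤ a + d * q := by
      by_contra hlt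
      exact hw0 (by rw [hw', Γ.pos _ (by omega) _ hx₀, mul_zero])
    by_contra hne
    have : 1 ≤ -c - d := by omega
    nlinarith
  rw [hcd] at hr
  rw [show a + d * (q : ℤ) = ρ by rw [show d = -c by omega]; linarith] at hx₀
  refine ⟨V.deg0Equiv ⟨r, hr⟩, Subtype.ext ?_⟩
  show φ r * proj 𝒜 ρ (h (F 1)) = w
  rw [proj_of_mem 𝒜 hx₀, hw']

include φ in
/-- A Gorenstein Veronese subring of a standard graded Cohen-Macaulay ring of dimension at least two
comes from a Gorenstein ring. -/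
theorem VCtx.gorenstein_and_dvd [LocCoh.IsCohenMacaulayRing R] [LocCoh.IsGorensteinRing R']
    (C : VCtx 𝒜 𝒜' φ q m m') (Γ : FieldCtx 𝒜 m) (hm' : GrLC.IsStarLocal 𝒜' m')
    (hstd : Ideal.span (⋃ n ∈ Set.Ioi (0 : ℤ), (𝒜 n : Set R)) = Ideal.span (𝒜 1 : Set R))
    (hn : ringKrullDim R = n) (h2 : 2 ≤ n) {a : ℤ}
    (ha : GrLC.endDeg (I.Hgr m n) = ((a : WithTop ℤ) : WithBot (WithTop ℤ)))
    (hne : ∀ i, i ≤ a → I.Hcomp m n i ≠ ⊥) :
    LocCoh.IsGorensteinRing R ∧ (q : ℤ) ∣ a := by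
  haveI := (isMaximal_starMax Γ.pos Γ.starLocal.1).isPrime
  have V := C.vdata
  have Γ' := V.fieldCtx Γ hm'
  haveI := V.isNoetherianRing
  haveI := isCohenMacaulayRing_of_gorenstein (R := R')
  have hn' : ringKrullDim R' = n := (V.ringKrullDim_eq C.pos).trans hn
  obtain ⟨I'⟩ := nonempty_res (𝒜 := 𝒜') 𝒜'
  obtain ⟨E', e', he'⟩ := exists_residue_hull (𝒜 := 𝒜') m'
  obtain ⟨K', hK'⟩ := Γ'.exists_canonical he' n I'
  obtain ⟨E, e, he⟩ := exists_residue_hull (𝒜 := 𝒜) m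
  obtain ⟨K, hK⟩ := Γ.exists_canonical he n I
  haveI := hK.1
  obtain ⟨g, W⟩ := C.exists_semilinear_canonical Γ hm' he hK he' hK'
  obtain ⟨d, F, hF, hFd⟩ := (Γ'.gorenstein_iff_shift he' hn' hK').1 inferInstance
  let c0 := g (F 1)
  have hgen : ∀ (j : ℤ), ∀ x ∈ K.gr (j * q), ∃ r ∈ 𝒜' (j - d), x = φ r • c0 := by
    intro j x hx
    obtain ⟨y, hy, rfl⟩ := (W.deg j x).1 hx
    obtain ⟨r, hr, rfl⟩ := exists_preimage_of_deg hF hFd hy
    refine ⟨r, hr, ?_⟩
    rw [← map_smulₛₗ g, ← map_smul F, smul_eq_mul, mul_one]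
  have hc0 : c0 ∈ K.gr (d * q) := by
    refine W.map_mem ?_
    have := hFd 0 1 SetLike.GradedOne.one_mem
    rwa [zero_add] at this
  have hFr : ∀ r : R', φ r • c0 = 0 → r = 0 := fun r hr => by
    rw [← map_smulₛₗ g, ← map_smul F, smul_eq_mul, mul_one] at hr
    exact hF.1 ((W.inj (hr.trans (map_zero g).symm)).trans (map_zero F).symm)
  have hc0ne : c0 ≠ 0 := fun h => by
    have h1 : (1 : R') = 0 := hFr 1 (by rw [h, smul_zero])
    exact Γ'.starLocal.1.1 (HomogeneousIdeal.ext (by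
      rw [HomogeneousIdeal.toIdeal_top, Ideal.eq_top_iff_one, h1]
      exact zero_mem _))
  have hnz : ∀ i, -a ≤ i → ∃ x ∈ K.gr i, x ≠ 0 := fun i hi => by
    by_contra! hall
    exact hne (-i) (by omega) ((Γ.Hcomp_eq_bot_iff_canonical he hK i).2 hall)
  have hlo : -a ≤ d * q := by
    by_contra hlt
    exact hc0ne ((Γ.canonical_initial he hK ha).2 _ (by omega) _ hc0)
  have heq : d * q = -a := by
    by_contra hne'
    have hlt : -a < d * q := by omega
    by_cases hprev : -a ≤ (d - 1) * q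
    · obtain ⟨x, hx, hx0⟩ := hnz _ hprev
      obtain ⟨r, hr, rfl⟩ := hgen (d - 1) x hx
      exact hx0 (by rw [Γ'.pos _ (by omega) r hr, map_zero, zero_smul])
    · obtain ⟨x, hx, hx0⟩ := hnz (d * q - 1) (by omega)
      have h2' := Γ.two_le_finrank_of_pred_ne_zero he hn hK hstd h2 hx hx0
      rw [sub_add_cancel] at h2'
      let _ := Γ.isField.toField
      have hle : Module.finrank (GrLC.deg0 𝒜) (GrLC.comp 𝒜 K.gr (d * q)) ≤ 1 := by
        refine finrank_le_one (⟨c0, hc0⟩ : GrLC.comp 𝒜 K.gr (d * q)) fun w => ?_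
        obtain ⟨r, hr, hw⟩ := hgen d w.1 w.2
        rw [sub_self] at hr
        exact ⟨V.deg0Equiv ⟨r, hr⟩, Subtype.ext hw.symm⟩
      omega
  refine ⟨?_, ⟨-d, by linarith⟩⟩
  let G : R →ₗ[R] K.carrier := LinearMap.toSpanSingleton R K.carrier c0
  have hG : GrLC.IsGrHomDeg 𝒜 K.gr G (d * q) := fun i r hr => GrLC21.smul_mem 𝒜 K.gr hr hc0
  let A := Localization.AtPrime m.toIdeal
  let S := m.toIdeal.primeCompl
  haveI : LocCoh.IsCohenMacaulayLocalRing A :=
    LocCoh.IsCohenMacaulayRing.isCohenMacaulayLocalRing_localization (R := R) m.toIdeal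
  obtain ⟨hCM, hsd, -⟩ := Γ.canonical_cm_injDim he hn hK
  have hdK : 1 ≤ LocCoh.depth A (LocalizedModule S K.carrier) := by
    have h := hsd.symm.trans hCM
    have h' : ((n : ℕ∞)) = LocCoh.depth A (LocalizedModule S K.carrier) := WithBot.coe_injective h
    rw [← h']
    exact_mod_cast (show 1 ≤ n by omega)
  have hdA : 2 ≤ LocCoh.depth A A := by
    have h := (LocCoh.IsCohenMacaulayLocalRing.supportDim_eq_depth (R := A))
    rw [Module.supportDim_self_eq_ringKrullDim, Γ.ringKrullDim_localized hn] at h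
    have h' : ((n : ℕ∞)) = LocCoh.depth A A := WithBot.coe_injective h
    rw [← h']
    exact_mod_cast h2
  have hqpos : (0 : ℤ) < q := Int.natCast_pos.2 V.qpos
  have hpow : ∀ l : ℕ, 1 ≤ l → m.toIdeal ^ l ≤ Ideal.span (𝒜 (l : ℤ) : Set R) := by
    intro l hl
    induction l, hl using Nat.le_induction with
    | base => rw [pow_one, Nat.cast_one, C.irr, hstd]
    | succ l hl ih =>
      rw [pow_succ]
      refine (Ideal.mul_mono ih (le_of_eq (C.irr.trans hstd))).trans ?_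
      rw [Ideal.span_mul_span']
      refine Ideal.span_mono ?_
      rintro _ ⟨x, hx, y, hy, rfl⟩
      rw [Nat.cast_succ]
      exact SetLike.mul_mem_graded hx hy
  have hel : ∀ i : ℤ, ∃ l : ℕ, 1 ≤ l ∧ (q : ℤ) ∣ i + l := fun i => by
    refine ⟨(q * (|i| + 1) - i).toNat, ?_, ?_⟩
    · have : 1 ≤ q * (|i| + 1) - i := by nlinarith [le_abs_self i, abs_nonneg i]
      omega
    · rw [Int.toNat_of_nonneg (by nlinarith [le_abs_self i, abs_nonneg i])]
      exact ⟨|i| + 1, by ring⟩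
  -- injectivity
  have hinjG : Function.Injective G := by
    have key : ∀ i, ∀ r ∈ 𝒜 i, r • c0 = 0 → r = 0 := by
      intro i r hr h0
      obtain ⟨l, hl, j, hj⟩ := hel i
      have hkill : ∀ s ∈ 𝒜 (l : ℤ), s * r = 0 := fun s hs => by
        have hsr : s * r ∈ 𝒜 (j * q) := by
          rw [show j * (q : ℤ) = l + i by rw [mul_comm]; omega]
          exact SetLike.mul_mem_graded hs hr
        obtain ⟨r', -, e⟩ := (V.deg j _).1 hsr
        rw [← e, hFr r' (by rw [e, mul_smul, h0, smul_zero]), map_zero]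
      refine Γ.eq_zero_of_smul_eq_zero (C := R) (𝒞 := 𝒜) hr (s := (1 : R)) ?_ ?_ |> fun h => h
      · exact fun h => (isMaximal_starMax Γ.pos Γ.starLocal.1).ne_top ((Ideal.eq_top_iff_one _).2 h)
      rw [one_smul]
      have hz : algebraMap R A r = 0 := by
        refine eq_zero_of_pow_killed (le_trans one_le_two hdA) (k := l) fun u hu => ?_
        rw [← Localization.AtPrime.map_eq_maximalIdeal, ← Ideal.map_pow] at hu
        refine Submodule.span_induction (p := fun u _ => u • algebraMap R A r = 0) ?_ (zero_smul _ _)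
          (fun x y _ _ hx hy => by rw [add_smul, hx, hy, add_zero])
          (fun x y _ hy => by rw [smul_assoc, hy, smul_zero]) hu
        rintro _ ⟨s, hs, rfl⟩
        rw [smul_eq_mul, ← map_mul]
        have : s * r = 0 := by
          refine Submodule.span_induction (p := fun s _ => s * r = 0) (fun x hx => hkill x hx) (zero_mul _)
            (fun x y _ _ hx hy => by rw [add_mul, hx, hy, add_zero])
            (fun x y _ hy => by rw [smul_eq_mul, mul_assoc, hy, mul_zero]) (hpow l hl hs)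
        rw [this, map_zero]
      obtain ⟨s, hs⟩ := (IsLocalization.map_eq_zero_iff S A r).1 hz
      exact Γ.eq_zero_of_smul_eq_zero (C := R) (𝒞 := 𝒜) hr s.2 hs
    rw [injective_iff_map_eq_zero]
    intro r hr
    refine eq_zero_of_proj 𝒜 fun i => key i _ (proj_mem 𝒜 i r) ?_
    have : proj K.gr (i + d * q) (G r) = G (proj 𝒜 i r) := by
      refine spans_induction (spans_of_decomposition 𝒜) r (by simp) (fun a b ha hb => by simp only [map_add, ha, hb])
        fun l a ha => ?_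
      rcases eq_or_ne l i with rfl | hl
      · rw [proj_of_mem 𝒜 ha, proj_of_mem K.gr (hG l a ha)]
      · rw [proj_of_mem_ne 𝒜 ha hl, map_zero, proj_of_mem_ne K.gr (hG l a ha) (by omega)]
    rw [hr, map_zero] at this
    exact this.symm
  -- surjectivity
  have hsurj : Function.Surjective G := fun x => by
    refine spans_induction (P := fun x => ∃ r, G r = x) (spans_of_decomposition K.gr) x ⟨0, map_zero G⟩
      (fun a b ha hb => by obtain ⟨r, rfl⟩ := ha; obtain ⟨s, rfl⟩ := hb; exact ⟨r + s, map_add G r s⟩) fun i x hx => ?_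
    obtain ⟨l, hl, j, hj⟩ := hel i
    have hmul : ∀ s ∈ m.toIdeal ^ l, ∃ t : R, s • x = t • c0 := by
      intro s hs
      refine Submodule.span_induction (p := fun s _ => ∃ t : R, s • x = t • c0) ?_ ⟨0, by simp⟩ ?_ ?_ (hpow l hl hs)
      · intro s hs
        have hsx : s • x ∈ K.gr (j * q) := by
          rw [show j * (q : ℤ) = l + i by rw [mul_comm]; omega]
          exact GrLC21.smul_mem 𝒜 K.gr hs hx
        obtain ⟨r, -, e⟩ := hgen j _ hsx
        exact ⟨φ r, e⟩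
      · rintro u v _ _ ⟨t, ht⟩ ⟨t', ht'⟩
        exact ⟨t + t', by rw [add_smul, ht, ht', add_smul]⟩
      · rintro u v _ ⟨t, ht⟩
        exact ⟨u * t, by rw [smul_eq_mul, mul_smul, ht, mul_smul]⟩
    let x' : LocalizedModule S K.carrier := LocalizedModule.mk x 1
    let y' : LocalizedModule S K.carrier := LocalizedModule.mk c0 1
    have hy' : ∀ u : A, u • y' = 0 → u = 0 := by
      intro u hu
      obtain ⟨⟨r, s⟩, rfl⟩ := IsLocalization.mk'_surjective S u
      rw [← Localization.mk_eq_mk', LocalizedModule.mk_smul_mk, ← LocalizedModule.zero_mk (s * 1),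
        LocalizedModule.mk_eq] at hu
      obtain ⟨t, ht⟩ := hu
      simp only [Submonoid.smul_def, smul_zero, mul_one] at ht
      have h0 : G ((t : R) * (s : R) * r) = 0 := by
        show ((t : R) * (s : R) * r) • c0 = 0
        rw [mul_smul, mul_smul]; exact ht
      rw [IsLocalization.mk'_eq_zero_iff]
      refine ⟨t * s, ?_⟩
      rw [Submonoid.coe_mul]
      exact hinjG (h0.trans (map_zero G).symm)
    have hc : ∀ u ∈ IsLocalRing.maximalIdeal A ^ l, ∃ t : A, u • x' = t • y' := by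
      intro u hu
      rw [← Localization.AtPrime.map_eq_maximalIdeal, ← Ideal.map_pow] at hu
      refine Submodule.span_induction (p := fun u _ => ∃ t : A, u • x' = t • y') ?_ ⟨0, by simp⟩ ?_ ?_ hu
      · rintro _ ⟨s, hs, rfl⟩
        obtain ⟨t, ht⟩ := hmul s hs
        refine ⟨algebraMap R A t, ?_⟩
        rw [algebraMap_smul, algebraMap_smul, LocalizedModule.smul'_mk, LocalizedModule.smul'_mk, ht]
      · rintro u v _ _ ⟨t, ht⟩ ⟨t', ht'⟩
        exact ⟨t + t', by rw [add_smul, ht, ht', add_smul]⟩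
      · rintro u v _ ⟨t, ht⟩
        exact ⟨u * t, by rw [smul_eq_mul, mul_smul, ht, mul_smul]⟩
    obtain ⟨t, ht⟩ := exists_smul_eq_of_pow_killed hdA hdK hy' hc
    obtain ⟨⟨r, s⟩, rfl⟩ := IsLocalization.mk'_surjective S t
    rw [← Localization.mk_eq_mk', LocalizedModule.mk_smul_mk, LocalizedModule.mk_eq] at ht
    obtain ⟨w, hw⟩ := ht
    simp only [Submonoid.smul_def, mul_one, one_smul] at hw
    have hws : (w : R) * (s : R) ∉ m.toIdeal := (w * s).2
    have hGr : G ((w : R) * r) = ((w : R) * (s : R)) • x := by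
      show ((w : R) * r) • c0 = _
      rw [mul_smul, mul_smul]; exact hw.symm
    have hp : proj K.gr i (((w : R) * (s : R)) • x) = proj 𝒜 0 ((w : R) * (s : R)) • x := by
      refine spans_induction (spans_of_decomposition 𝒜) ((w : R) * (s : R)) (by simp)
        (fun a b ha hb => by rw [add_smul, map_add, ha, hb, map_add, add_smul]) fun e r' hr' => ?_
      rcases eq_or_ne e 0 with rfl | he0
      · rw [proj_of_mem 𝒜 hr', proj_of_mem K.gr (by simpa using GrLC21.smul_mem 𝒜 K.gr hr' hx)]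
      · rw [proj_of_mem_ne 𝒜 hr' he0, zero_smul, proj_of_mem_ne K.gr (GrLC21.smul_mem 𝒜 K.gr hr' hx) (by omega)]
    have hG0 : proj K.gr i (G ((w : R) * r)) = G (proj 𝒜 (i - d * q) ((w : R) * r)) := by
      refine spans_induction (spans_of_decomposition 𝒜) ((w : R) * r) (by simp)
        (fun a b ha hb => by simp only [map_add, ha, hb]) fun e a ha => ?_
      rcases eq_or_ne e (i - d * q) with rfl | he0
      · rw [proj_of_mem 𝒜 ha]
        have := hG _ a ha
        rw [sub_add_cancel] at this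
        rw [proj_of_mem K.gr this]
      · rw [proj_of_mem_ne 𝒜 ha he0, map_zero, proj_of_mem_ne K.gr (hG e a ha) (by omega)]
    have hs0 : proj 𝒜 0 ((w : R) * (s : R)) ≠ 0 := fun e => hws (by
      simpa [e] using Γ.sub_proj_zero_mem ((w : R) * (s : R)))
    obtain ⟨v, hv⟩ := Γ.isField.mul_inv_cancel
      (a := ⟨proj 𝒜 0 ((w : R) * (s : R)), proj_mem 𝒜 0 _⟩) fun e => hs0 (congrArg Subtype.val e)
    refine ⟨(v : R) * proj 𝒜 (i - d * q) ((w : R) * r), ?_⟩
    rw [← smul_eq_mul, map_smul, ← hG0, hGr, hp, ← mul_smul, mul_comm,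
      show proj 𝒜 0 ((w : R) * (s : R)) * (v : R) = 1 from congrArg Subtype.val hv, one_smul]
  exact (Γ.gorenstein_iff_shift he hn hK).2 ⟨d * q, G, ⟨hinjG, hsurj⟩, hG⟩

end Groth.Agent.Ver21

namespace Groth.Agent.GrLC21

variable {R : Type u} [CommRing R] {𝒜 : ℤ → AddSubgroup R} [GradedRing 𝒜]

/-- The a-invariant of a Cohen-Macaulay ring is an integer. -/
theorem exists_aInvariant [LocCoh.IsCohenMacaulayRing R] {m : HomogeneousIdeal 𝒜}
    (hpos : ∀ n : ℤ, n < 0 → ∀ r ∈ 𝒜 n, r = 0) (hm : GrLC.IsStarLocal 𝒜 m) {n : ℕ} (hn : ringKrullDim R = n)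
    (I : GrLC.StarInjRes 𝒜 𝒜) :
    ∃ a : ℤ, GrLC.endDeg (I.Hgr m n) = ((a : WithTop ℤ) : WithBot (WithTop ℤ)) := by
  classical
  haveI := isMaximal_starMax hpos hm.1
  obtain ⟨g, hg⟩ := exists_not_van_of_cm (M := R) hpos hm 𝒜
    (by rw [Module.supportDim_self_eq_ringKrullDim, hn]) ((isCohenMacaulayRing_iff R).1 inferInstance)
  obtain ⟨eH⟩ := nonempty_H_equiv I m n
  haveI := isArtinian_H_maximal m.toIdeal n R
  haveI : IsArtinian R (Hmod I m n).carrier :=
    isArtinian_of_linearEquiv (M := LocCoh.H m.toIdeal n R) (P := I.H m n) eH.symm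
  obtain ⟨b, hb⟩ := exists_bound_of_isArtinian (Hmod I m n).gr hpos
  obtain ⟨a, ha, hmax⟩ := Int.exists_greatest_of_bdd (P := fun z => I.Hgr m n z ≠ ⊥)
    ⟨b, fun z hz => le_of_not_gt fun hlt => hz ((AddSubgroup.eq_bot_iff_forall _).2 fun x hx => hb z hlt.le x hx)⟩
    ⟨g, fun h => hg ((Hcomp_eq_bot_iff_van I).1 ((Hgr_eq_bot_iff I m).1 h))⟩
  exact ⟨a, (endDeg_eq_coe_iff _ a).2 ⟨ha, fun l hl => by_contra fun hne => absurd (hmax l hne) (by omega)⟩⟩

end Groth.Agent.GrLC21
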