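import Groth.Agent.Lib.Ver21.Type
import Groth.Agent.Lib.GrLC21.PolyChar
import Groth.Agent.S0342
import Mathlib.RingTheory.RegularLocalRing.Polynomial
import Mathlib.RingTheory.MvPolynomial.Ideal
import Mathlib.Data.Sym.Card
import Mathlib.Data.Finsupp.Multiset
import Mathlib.RingTheory.MvPolynomial.WeightedHomogeneous

/-!
# The type of a Veronese subring of a polynomial ring
-/

universe u

open DirectSum
open Groth.Agent.GrLC21

noncomputable section

set_option linter.unusedSectionVars false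
set_option backward.isDefEq.respectTransparency false

namespace Groth.Agent.Ver21

variable (k : Type u) [Field k] (s : ℕ)

/-- The degree of a monomial, as an integer weight. -/
theorem weight_one_eq (e : Fin s →₀ ℕ) :
    Finsupp.weight (fun _ : Fin s => (1 : ℤ)) e = ((e.sum fun _ => id) : ℕ) := by
  rw [Finsupp.weight_apply]
  simp [Finsupp.sum, nsmul_eq_mul]

/-- The standard grading of the polynomial ring, indexed by the integers. -/
def polyGr (g : ℤ) : AddSubgroup (MvPolynomial (Fin s) k) :=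
  (MvPolynomial.weightedHomogeneousSubmodule k (fun _ : Fin s => (1 : ℤ)) g).toAddSubgroup

instance : SetLike.GradedMonoid (polyGr k s) where
  one_mem := MvPolynomial.isWeightedHomogeneous_one k _
  mul_mem _ _ _ _ hx hy := MvPolynomial.IsWeightedHomogeneous.mul hx hy

theorem isInternal_polyGr : IsInternal (polyGr k s) :=
  isInternal_of_proj _ (fun g => (MvPolynomial.weightedHomogeneousComponent (fun _ : Fin s => (1 : ℤ)) g).toAddMonoidHom)
    (fun g x hx => by
      show MvPolynomial.weightedHomogeneousComponent _ g x = x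
      rw [MvPolynomial.weightedHomogeneousComponent_of_mem hx, if_pos rfl])
    (fun g h e x hx => by
      show MvPolynomial.weightedHomogeneousComponent _ g x = 0
      rw [MvPolynomial.weightedHomogeneousComponent_of_mem hx, if_neg e])
    fun x => by
      classical
      rw [← MvPolynomial.sum_weightedHomogeneousComponent (fun _ : Fin s => (1 : ℤ)) x,
        finsum_eq_sum _ (MvPolynomial.weightedHomogeneousComponent_finsupp x)]
      exact sum_mem fun g _ => AddSubgroup.mem_iSup_of_mem g (MvPolynomial.weightedHomogeneousComponent_mem _ x g)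

instance : GradedRing (polyGr k s) :=
  { (inferInstance : SetLike.GradedMonoid (polyGr k s)), (isInternal_polyGr k s).chooseDecomposition with }

variable {k s}

theorem mem_polyGr {g : ℤ} {p : MvPolynomial (Fin s) k} :
    p ∈ polyGr k s g ↔ ∀ ⦃e⦄, MvPolynomial.coeff e p ≠ 0 → ((e.sum fun _ => id : ℕ) : ℤ) = g := by
  constructor
  · intro h e he
    rw [← weight_one_eq]
    exact h he
  · intro h e he
    show Finsupp.weight (fun _ : Fin s => (1 : ℤ)) e = g
    rw [weight_one_eq]
    exact h he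

theorem polyGr_neg {g : ℤ} (hg : g < 0) {p : MvPolynomial (Fin s) k} (hp : p ∈ polyGr k s g) : p = 0 :=
  MvPolynomial.ext _ _ fun e => by
    rw [MvPolynomial.coeff_zero]
    by_contra he
    have := mem_polyGr.1 hp he
    omega

theorem proj_polyGr (i : ℕ) (p : MvPolynomial (Fin s) k) :
    proj (polyGr k s) (i : ℤ) p = MvPolynomial.homogeneousComponent i p := by
  classical
  refine spans_induction (spans_of_decomposition (polyGr k s)) p (by simp)
    (fun a b ha hb => by simp only [map_add, ha, hb]) fun g a ha => ?_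
  refine MvPolynomial.ext _ _ fun e => ?_
  rw [MvPolynomial.coeff_homogeneousComponent, Finsupp.degree_apply]
  change _ = if (e.sum fun _ => id) = i then _ else _
  rcases eq_or_ne g (i : ℤ) with rfl | hg
  · rw [proj_of_mem _ ha]
    split_ifs with he
    · rfl
    · by_contra hne
      exact he (by exact_mod_cast mem_polyGr.1 ha hne)
  · rw [proj_of_mem_ne _ ha hg, MvPolynomial.coeff_zero]
    split_ifs with he
    · by_contra hne
      have := mem_polyGr.1 ha (Ne.symm hne)
      rw [he] at this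
      exact hg this.symm
    · rfl

theorem C_mem_polyGr (c : k) : MvPolynomial.C c ∈ polyGr k s 0 := MvPolynomial.isWeightedHomogeneous_C _ c

theorem eq_C_of_mem {p : MvPolynomial (Fin s) k} (hp : p ∈ polyGr k s 0) : p = MvPolynomial.C (MvPolynomial.coeff 0 p) := by
  refine MvPolynomial.ext _ _ fun e => ?_
  rw [MvPolynomial.coeff_C]
  split_ifs with he
  · rw [he]
  · by_contra hne
    have h := mem_polyGr.1 hp hne
    refine he (Finsupp.ext fun i => ?_)
    have h' : (e.sum fun _ => id) = 0 := by exact_mod_cast h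
    rw [Finsupp.sum] at h'
    have := Finset.sum_eq_zero_iff.1 h'
    by_cases hi : i ∈ e.support
    · exact (this i hi).symm
    · rw [Finsupp.notMem_support_iff.1 hi, Finsupp.coe_zero, Pi.zero_apply]

variable (k s) in
/-- The constants are the degree-zero part. -/
def constEquiv : k ≃+* GrLC.deg0 (polyGr k s) :=
  RingEquiv.ofBijective ((MvPolynomial.C : k →+* MvPolynomial (Fin s) k).codRestrict (GrLC.deg0 (polyGr k s)) C_mem_polyGr)
    ⟨fun a b h => MvPolynomial.C_injective _ _ (congrArg Subtype.val h),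
      fun p => ⟨MvPolynomial.coeff 0 (p : MvPolynomial (Fin s) k), Subtype.ext (eq_C_of_mem p.2).symm⟩⟩

theorem finrank_polyGr (i : ℕ) :
    Module.finrank (GrLC.deg0 (polyGr k s)) (GrLC.comp (polyGr k s) (polyGr k s) (i : ℤ)) = (s + i - 1).choose i := by
  classical
  haveI : SetLike.GradedSMul (polyGr k s) (polyGr k s) := ⟨fun _ _ _ _ hr hx => SetLike.mul_mem_graded hr hx⟩
  let S : Set (Fin s →₀ ℕ) := {e | (e.sum fun _ => id) = i}
  let j : MvPolynomial.restrictSupport k S ≃+ GrLC.comp (polyGr k s) (polyGr k s) (i : ℤ) :=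
    { toFun := fun p => ⟨p.1, mem_polyGr.2 fun e he => by
        have h := AddMonoidAlgebra.mem_supported.1 p.2 (MvPolynomial.mem_support_iff.2 he)
        exact_mod_cast h⟩
      invFun := fun p => ⟨p.1, AddMonoidAlgebra.mem_supported.2 fun e he => by
        have h := mem_polyGr.1 p.2 (MvPolynomial.mem_support_iff.1 he)
        show (e.sum fun _ => id) = i
        exact_mod_cast h⟩
      left_inv := fun _ => rfl
      right_inv := fun _ => rfl
      map_add' := fun _ _ => rfl }
  have h : Module.finrank (GrLC.deg0 (polyGr k s)) (GrLC.comp (polyGr k s) (polyGr k s) (i : ℤ)) =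
      Module.finrank k (MvPolynomial.restrictSupport k S) := by
    unfold Module.finrank
    rw [rank_eq_of_equiv_equiv (R := k) (R' := GrLC.deg0 (polyGr k s)) (constEquiv k s) j (constEquiv k s).bijective
      fun c p => Subtype.ext (MvPolynomial.smul_eq_C_mul p.1 c)]
  rw [h]
  let e : Sym (Fin s) i ≃ S := Sym.equivNatSum (Fin s) i
  haveI : Fintype S := Fintype.ofEquiv _ e
  rw [Module.finrank_eq_card_basis (MvPolynomial.basisRestrictSupport k S), ← Fintype.card_congr e,
    Sym.card_sym_eq_choose, Fintype.card_fin]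

set_option backward.isDefEq.respectTransparency true in
variable (k s) in
theorem isGorensteinRing_mvPolynomial : LocCoh.IsGorensteinRing (MvPolynomial (Fin s) k) :=
  { isGorensteinLocalRing_localization := fun p _ => Groth.Agent.S0342.result _ }

set_option maxHeartbeats 800000 in
/-- The type of a Veronese subring of a polynomial ring. -/
theorem bassNum_veronese_polyGr {d : ℕ} (hs : 1 ≤ s) (hd : 1 ≤ d) {R' : Type u} [CommRing R']
    (φ : R' →+* MvPolynomial (Fin s) k) (hφ : Function.Injective φ)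
    (hrange : ∀ p : MvPolynomial (Fin s) k, p ∈ φ.range ↔
      ∀ j : ℕ, ¬ d ∣ j → MvPolynomial.homogeneousComponent j p = 0)
    (m₀ : Ideal R') [m₀.IsMaximal]
    (hm₀ : m₀ = Ideal.comap φ (RingHom.ker (MvPolynomial.constantCoeff : MvPolynomial (Fin s) k →+* k)))
    (n : ℕ) (hsn : s ≤ n) (hdn : d ∣ n) (hmin : ∀ n' : ℕ, s ≤ n' → d ∣ n' → n ≤ n') :
    GrLC.bassNum m₀ R' s = (Nat.choose (n - 1) (s - 1) : ℕ∞) := by
  classical
  let 𝒜 := polyGr k s
  haveI : SetLike.GradedSMul 𝒜 𝒜 := ⟨fun _ _ _ _ hr hx => SetLike.mul_mem_graded hr hx⟩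
  let 𝒜' : ℤ → AddSubgroup R' := fun j => (𝒜 (j * d)).comap φ.toAddMonoidHom
  have hmem : ∀ p, p ∈ φ.range ↔ ∀ g : ℤ, ¬ (d : ℤ) ∣ g → proj 𝒜 g p = 0 := by
    intro p
    rw [hrange]
    refine ⟨fun h g hg => ?_, fun h j hj => ?_⟩
    · rcases lt_or_ge g 0 with hg0 | hg0
      · exact polyGr_neg hg0 (proj_mem 𝒜 g p)
      · obtain ⟨i, rfl⟩ := Int.eq_ofNat_of_zero_le hg0
        rw [proj_polyGr]
        exact h i fun h' => hg (Int.natCast_dvd_natCast.2 h')
    · rw [← proj_polyGr]
      exact h j fun h' => hj (Int.natCast_dvd_natCast.1 h')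
  have hlift : ∀ (j : ℤ) (p : MvPolynomial (Fin s) k), p ∈ 𝒜 (j * d) → ∃ r, φ r = p := fun j p hp =>
    (hmem p).2 fun g hg => proj_of_mem_ne 𝒜 hp fun e => hg ⟨j, by rw [← e, mul_comm]⟩
  choose ψ hψ using hlift
  let π : ℤ → R' →+ R' := fun j => AddMonoidHom.mk' (fun r => ψ j _ (proj_mem 𝒜 (j * d) (φ r))) fun a b => hφ (by
    rw [hψ, map_add φ, map_add, map_add φ, hψ, hψ])
  haveI : SetLike.GradedMonoid 𝒜' :=
    { one_mem := by
        show φ 1 ∈ 𝒜 (0 * (d : ℤ))
        rw [map_one, zero_mul]; exact SetLike.GradedOne.one_mem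
      mul_mem := fun i j a b ha hb => by
        show φ (a * b) ∈ 𝒜 ((i + j) * (d : ℤ))
        rw [map_mul, add_mul]; exact SetLike.mul_mem_graded ha hb }
  have hint : IsInternal 𝒜' := by
    refine isInternal_of_proj _ π (fun j r hr => hφ ?_) (fun g h e r hr => hφ ?_) fun r => ?_
    · show φ (ψ j _ _) = φ r
      rw [hψ, proj_of_mem 𝒜 (show φ r ∈ 𝒜 (j * d) from hr)]
    · show φ (ψ g _ _) = φ 0
      rw [hψ, map_zero φ, proj_of_mem_ne 𝒜 (show φ r ∈ 𝒜 (h * d) from hr) fun e' => e (mul_right_cancel₀ (by exact_mod_cast (show d ≠ 0 by omega)) e').symm]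
    · obtain ⟨D, hD⟩ : ∃ D : Finset ℤ, r = ∑ j ∈ D, π j r := by
        refine ⟨(degs 𝒜 (φ r)).image (· / (d : ℤ)), hφ ?_⟩
        rw [map_sum φ, Finset.sum_image]
        · conv_lhs => rw [← sum_proj 𝒜 (φ r)]
          refine Finset.sum_congr rfl fun g hg => ?_
          show proj 𝒜 g (φ r) = φ (ψ (g / (d : ℤ)) _ _)
          rw [hψ, Int.ediv_mul_cancel]
          exact by_contra fun h => (mem_degs 𝒜).1 hg ((hmem _).1 ⟨r, rfl⟩ g h)
        · intro a ha b hb hab
          have hd' : ∀ g ∈ degs 𝒜 (φ r), (d : ℤ) ∣ g := fun g hg =>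
            by_contra fun h => (mem_degs 𝒜).1 hg ((hmem _).1 ⟨r, rfl⟩ g h)
          dsimp only at hab
          rw [← Int.ediv_mul_cancel (hd' a ha), ← Int.ediv_mul_cancel (hd' b hb), hab]
      rw [hD]
      refine sum_mem fun j _ => AddSubgroup.mem_iSup_of_mem j ?_
      show φ (ψ j _ _) ∈ 𝒜 (j * d)
      rw [hψ]
      exact proj_mem 𝒜 _ _
  letI : GradedRing 𝒜' := { (inferInstance : SetLike.GradedMonoid 𝒜'), hint.chooseDecomposition with }
  have V : VData 𝒜 𝒜' φ d := ⟨hd, hφ, fun j x => ⟨fun hx => ⟨ψ j x hx, AddSubgroup.mem_comap.2 (show φ (ψ j x hx) ∈ 𝒜 (j * d) by rw [hψ]; exact hx), hψ j x hx⟩,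
    by rintro ⟨r, hr, rfl⟩; exact hr⟩⟩
  have hpos : ∀ g : ℤ, g < 0 → ∀ p ∈ 𝒜 g, p = 0 := fun g hg p hp => polyGr_neg hg hp
  have h0 : IsField (GrLC.deg0 𝒜) := (constEquiv k s).symm.toMulEquiv.isField (Field.toIsField k)
  obtain ⟨m, hm, hmsp⟩ := exists_starMax hpos h0
  have Γ : FieldCtx 𝒜 m := ⟨hpos, h0, hm⟩
  have p' : ∀ j : ℤ, j < 0 → ∀ r ∈ 𝒜' j, r = 0 := fun j hj r hr => hφ (by
    rw [map_zero]
    exact hpos _ (mul_neg_of_neg_of_pos hj (by omega)) _ hr)
  obtain ⟨m', hm', hm'sp⟩ := exists_starMax p' (V.deg0Equiv.toMulEquiv.isField h0)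
  have hX : ∀ i, (MvPolynomial.X i : MvPolynomial (Fin s) k) ∈ 𝒜 1 := fun i =>
    MvPolynomial.isWeightedHomogeneous_X k _ i
  have hker : RingHom.ker (MvPolynomial.constantCoeff : MvPolynomial (Fin s) k →+* k) = m.toIdeal := by
    refine ((isMaximal_starMax hpos hm.1).eq_of_le (RingHom.ker_ne_top _) fun p hp => ?_).symm
    rw [RingHom.mem_ker, MvPolynomial.constantCoeff_eq]
    rw [hmsp] at hp
    have h := proj_eq_zero_of_mem_pos hpos rfl hp (n := 0) le_rfl
    rw [show (0 : ℤ) = ((0 : ℕ) : ℤ) from rfl, proj_polyGr, MvPolynomial.homogeneousComponent_zero] at h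
    have := congrArg (MvPolynomial.coeff 0) h
    simpa using this
  have hm₀' : m'.toIdeal = m₀ := by
    haveI := isMaximal_starMax p' hm'.1
    refine Ideal.IsMaximal.eq_of_le inferInstance (Ideal.IsMaximal.ne_top ‹m₀.IsMaximal›) ?_
    rw [hm₀, hker, hm'sp, Ideal.span_le]
    rintro r hr
    obtain ⟨j, hj, hr⟩ := Set.mem_iUnion₂.1 hr
    exact Γ.mem_pos (mul_pos (Set.mem_Ioi.1 hj) (by omega)) (show φ r ∈ 𝒜 (j * d) from hr)
  subst hm₀'
  have hstd : Ideal.span (⋃ g ∈ Set.Ioi (0 : ℤ), (𝒜 g : Set (MvPolynomial (Fin s) k))) = Ideal.span (𝒜 1 : Set (MvPolynomial (Fin s) k)) := by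
    refine le_antisymm ?_ (Ideal.span_mono (Set.subset_iUnion₂_of_subset 1 (Set.mem_Ioi.2 one_pos) le_rfl))
    rw [← hmsp, ← hker]
    intro p hp
    refine Ideal.span_mono ?_ (?_ : p ∈ Ideal.span (Set.range (MvPolynomial.X : Fin s → MvPolynomial (Fin s) k)))
    · rintro _ ⟨i, rfl⟩; exact hX i
    · rw [← Set.image_univ, MvPolynomial.mem_ideal_span_X_image]
      intro e he
      by_contra! hz
      rw [show e = 0 from Finsupp.ext fun i => hz i (Set.mem_univ i), MvPolynomial.mem_support_iff] at he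
      exact he (by rwa [RingHom.mem_ker, MvPolynomial.constantCoeff_eq] at hp)
  haveI := isGorensteinRing_mvPolynomial k s
  haveI := GrLC21.isCohenMacaulayRing_of_gorenstein (R := MvPolynomial (Fin s) k)
  have hN : ringKrullDim (MvPolynomial (Fin s) k) = s := by
    rw [MvPolynomial.ringKrullDim_of_isNoetherianRing, ringKrullDim_eq_zero_of_field, zero_add, Nat.card_fin]
  obtain ⟨I⟩ := nonempty_res (𝒜 := 𝒜) 𝒜
  have hone : Module.finrank (GrLC.deg0 𝒜) (GrLC.comp 𝒜 𝒜 (1 : ℤ)) ≤ s := by
    have h := finrank_polyGr (k := k) (s := s) 1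
    rw [Nat.cast_one, Nat.add_sub_cancel, Nat.choose_one_right] at h
    exact h.le
  have ha := (Γ.polynomial_of_finrank_one hmsp hstd hN hone I).2
  have hnd : n < s + d := by
    by_contra hlt
    obtain ⟨c, rfl⟩ := hdn
    have h1 : 1 ≤ c := by
      rcases Nat.eq_zero_or_pos c with rfl | h
      · simp at hlt; omega
      · exact h
    obtain ⟨c, rfl⟩ : ∃ c', c = c' + 1 := ⟨c - 1, by omega⟩
    have := hmin (d * c) (by rw [Nat.mul_succ] at hlt; omega) (dvd_mul_right d c)
    rw [Nat.mul_succ] at this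
    omega
  rw [(⟨V, hpos, hmsp, hm'sp⟩ : VCtx 𝒜 𝒜' φ d m m').type_eq_finrank_rem Γ hm' hstd hN ha
    (ρ := ((n - s : ℕ) : ℤ)) (by omega) (by omega) (by
      obtain ⟨c, rfl⟩ := hdn
      exact ⟨-(c : ℤ), by rw [Nat.cast_sub hsn]; push_cast; ring⟩), finrank_polyGr]
  rw [show s + (n - s) - 1 = n - 1 by omega, ← Nat.choose_symm (show n - s ≤ n - 1 by omega),
    show n - 1 - (n - s) = s - 1 by omega]

end Groth.Agent.Ver21
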