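import Groth.Agent.Lib.Ver21.Obj

/-!
# Acyclicity of Veronese submodules of *injective modules
-/

universe u

open DirectSum
open Groth.Agent.GrLC21

noncomputable section

set_option linter.unusedSectionVars false
set_option backward.isDefEq.respectTransparency false

namespace Groth.Agent.Ver21

variable {R : Type u} [CommRing R] {σ : Type u} [SetLike σ R] [AddSubgroupClass σ R]
  {𝒜 : ℤ → σ} [GradedRing 𝒜]
  {R' : Type u} [CommRing R'] {σ' : Type u} [SetLike σ' R'] [AddSubgroupClass σ' R']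
  {𝒜' : ℤ → σ'} [GradedRing 𝒜']
  {φ : R' →+* R} {q : ℕ}

/-- The standing hypotheses on a Veronese subring of a positively graded ring. -/
structure VCtx (𝒜 : ℤ → σ) [GradedRing 𝒜] (𝒜' : ℤ → σ') [GradedRing 𝒜'] (φ : R' →+* R) (q : ℕ)
    (m : HomogeneousIdeal 𝒜) (m' : HomogeneousIdeal 𝒜') : Prop where
  vdata : VData 𝒜 𝒜' φ q
  pos : ∀ n : ℤ, n < 0 → ∀ r ∈ 𝒜 n, r = 0
  irr : m.toIdeal = Ideal.span (⋃ n ∈ Set.Ioi (0 : ℤ), (𝒜 n : Set R))
  irr' : m'.toIdeal = Ideal.span (⋃ n ∈ Set.Ioi (0 : ℤ), (𝒜' n : Set R'))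

/-- The retraction onto the Veronese ring. -/
theorem VData.exists_retraction (V : VData 𝒜 𝒜' φ q) :
    ∃ p : R →+ R', (∀ r, p (φ r) = r) ∧ ∀ r x, p (φ r * x) = r * p x := by
  classical
  have h : ∀ x : R, ∃ r : R', φ r = vproj q 𝒜 x := fun x => (V.mem_range_iff _).2 (vproj_mem q 𝒜 x)
  choose p hp using h
  refine ⟨⟨⟨p, V.inj (by rw [hp, map_zero, map_zero])⟩,
    fun a b => V.inj (by rw [hp, map_add, map_add, hp, hp])⟩, fun r => V.inj ?_, fun r x => V.inj ?_⟩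
  · show φ (p (φ r)) = φ r
    rw [hp, (mem_verSub_iff q 𝒜).1 ((V.mem_range_iff _).1 ⟨r, rfl⟩)]
  · show φ (p (φ r * x)) = φ (r * p x)
    rw [hp, map_mul φ, hp]
    exact V.vproj_smul 𝒜 r x

include φ in
theorem VData.isNoetherianRing (V : VData 𝒜 𝒜' φ q) [IsNoetherianRing R] : IsNoetherianRing R' := by
  obtain ⟨p, hp, hmul⟩ := V.exists_retraction
  have hinj : ∀ I J : Ideal R', I.map φ ≤ J.map φ → I ≤ J := by
    intro I J h r hr
    have hmem : φ r ∈ Submodule.span R (φ '' (J : Set R')) := h (Ideal.mem_map_of_mem φ hr)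
    have key : ∀ x ∈ Submodule.span R (φ '' (J : Set R')), ∀ c : R, p (c * x) ∈ J := by
      intro x hx
      refine Submodule.span_induction (p := fun x _ => ∀ c : R, p (c * x) ∈ J) ?_ ?_ ?_ ?_ hx
      · rintro _ ⟨a, ha, rfl⟩ c
        rw [mul_comm, hmul]
        exact J.mul_mem_right _ ha
      · intro c
        rw [mul_zero, map_zero]
        exact J.zero_mem
      · intro a b _ _ ha hb c
        rw [mul_add, map_add]
        exact J.add_mem (ha c) (hb c)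
      · intro a b _ hb c
        rw [smul_eq_mul, ← mul_assoc]
        exact hb _
    have h1 := key _ hmem 1
    rwa [one_mul, hp] at h1
  rw [isNoetherianRing_iff, isNoetherian_iff']
  exact StrictMono.wellFoundedGT (f := fun I : Ideal R' => I.map φ) fun I J hlt =>
    lt_of_le_of_ne (Ideal.map_mono hlt.le) fun he => hlt.not_ge (hinj J I he.ge)

variable {m : HomogeneousIdeal 𝒜} {m' : HomogeneousIdeal 𝒜'} (C : VCtx 𝒜 𝒜' φ q m m')

include C in
theorem VCtx.map_le : m'.toIdeal.map φ ≤ m.toIdeal := by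
  rw [C.irr', Ideal.map_span, Ideal.span_le]
  rintro _ ⟨r, hr, rfl⟩
  obtain ⟨j, hj, hr⟩ := Set.mem_iUnion₂.1 hr
  rw [C.irr]
  exact Ideal.subset_span (Set.mem_iUnion₂.2 ⟨j * q,
    Set.mem_Ioi.2 (mul_pos (Set.mem_Ioi.1 hj) (Int.natCast_pos.2 C.vdata.qpos)), C.vdata.map_mem hr⟩)

include C in
theorem VCtx.exists_pow {d : ℤ} (hd : 0 < d) {x : R} (hx : x ∈ 𝒜 d) :
    ∃ x' ∈ 𝒜' d, φ x' = x ^ q ∧ x' ∈ m'.toIdeal := by
  have h := SetLike.pow_mem_graded q hx
  rw [nsmul_eq_mul, mul_comm] at h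
  obtain ⟨x', hx', e⟩ := (C.vdata.deg d _).1 h
  exact ⟨x', hx', e, C.irr'.ge (Ideal.subset_span (Set.mem_iUnion₂.2 ⟨d, hd, hx'⟩))⟩

include C in
theorem VCtx.gam_ver [IsNoetherianRing R] (X : GrLC.GMod.{u} 𝒜) (x : (ver C.vdata X).carrier) :
    x ∈ GrLC.gam m'.toIdeal (ver C.vdata X).carrier ↔ verι C.vdata X x ∈ GrLC.gam m.toIdeal X.carrier := by
  constructor
  · rintro ⟨n, hn⟩
    refine mem_gam_of_forall_pow C.irr.le fun y hy => ?_
    obtain ⟨d, hd, hy⟩ := Set.mem_iUnion₂.1 hy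
    obtain ⟨y', -, e, hy'⟩ := C.exists_pow hd hy
    refine ⟨q * n, ?_⟩
    rw [pow_mul, ← e, ← map_pow, ← verι_smul, hn _ (Ideal.pow_mem_pow hy' n), map_zero]
  · rintro ⟨n, hn⟩
    refine ⟨n, fun r hr => verι_injective C.vdata X ?_⟩
    rw [verι_smul, map_zero]
    refine hn _ ?_
    have h1 : φ r ∈ m'.toIdeal.map φ ^ n := by
      rw [← Ideal.map_pow]
      exact Ideal.mem_map_of_mem φ hr
    exact Ideal.pow_right_mono C.map_le n h1

include C in
theorem VCtx.isBij {X : GrLC.GMod.{u} 𝒜} (h : IsBij m X) : IsBij m' (ver C.vdata X) := by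
  obtain ⟨d, x, hxd, hxm, hbij⟩ := h
  rcases le_or_gt d 0 with hd | hd
  · have h0 : x = 0 := by
      rw [← GrLC21.proj_of_mem 𝒜 hxd]
      exact proj_eq_zero_of_mem_pos C.pos C.irr hxm hd
    have : Subsingleton X.carrier := ⟨fun v w => hbij.1 (by simp [h0])⟩
    have : Subsingleton (ver C.vdata X).carrier := (verι_injective C.vdata X).subsingleton
    exact ⟨0, 0, zero_mem _, m'.toIdeal.zero_mem, fun _ _ _ => Subsingleton.elim _ _,
      fun z => ⟨z, Subsingleton.elim _ _⟩⟩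
  obtain ⟨x', hx', e, hxm'⟩ := C.exists_pow hd hxd
  have hq : Function.Bijective fun v : X.carrier => x ^ q • v := by
    rw [show (fun v : X.carrier => x ^ q • v) = (fun v : X.carrier => x • v)^[q] from (smul_iterate x q).symm]
    exact hbij.iterate q
  refine ⟨d, x', hx', hxm', fun a b h => verι_injective C.vdata X (hq.1 ?_), fun b => ?_⟩
  · show x ^ q • verι C.vdata X a = x ^ q • verι C.vdata X b
    rw [← e, ← verι_smul, ← verι_smul]
    exact congrArg _ h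
  · obtain ⟨v, hv⟩ := hq.2 (verι C.vdata X b)
    obtain ⟨v', hv'⟩ := exists_verι C.vdata (vproj_mem q X.gr v)
    refine ⟨v', verι_injective C.vdata X ?_⟩
    show verι C.vdata X (x' • v') = verι C.vdata X b
    rw [verι_smul, hv', ← C.vdata.vproj_smul, e, show x ^ q • v = verι C.vdata X b from hv,
      (mem_verSub_iff q X.gr).1 (verι_mem C.vdata X b)]

include C in
theorem VCtx.isBasic [IsNoetherianRing R] {X : GrLC.GMod.{u} 𝒜} (h : IsBasic m X) : IsBasic m' (ver C.vdata X) :=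
  h.elim (fun h => Or.inl fun x => (C.gam_ver X x).2 (h _)) fun h => Or.inr (C.isBij h)

theorem fac_ver (V : VData 𝒜 𝒜' φ q) {Q : GrLC.GMod.{u} 𝒜 → Prop} {Q' : GrLC.GMod.{u} 𝒜' → Prop}
    (hQ : ∀ X, Q X → Q' (ver V X)) {X Y : GrLC.GMod.{u} 𝒜} {f : X.carrier →ₗ[R] Y.carrier}
    (hf : FacThrough Q X Y f) : FacThrough Q' (ver V X) (ver V Y) (verMap V hf.grHom) := by
  induction hf with
  | zero => rw [verMap_zero]; exact .zero
  | thru Z hZ f g hf hg =>
    rw [verMap_comp V hg hf]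
    exact .thru _ (hQ Z hZ) _ _ (verMap_grHom V hf) (verMap_grHom V hg)
  | add h₁ h₂ i₁ i₂ => rw [verMap_add V h₁.grHom h₂.grHom]; exact .add i₁ i₂

include C in
/-- The Veronese submodule of a *injective module is acyclic. -/
theorem VCtx.acyc_ver [IsNoetherianRing R] [IsNoetherianRing R'] {X : GrLC.GMod.{u} 𝒜}
    (hX : GrLC.IsStarInj 𝒜 X.gr) : Acyc m'.toIdeal (ver C.vdata X).carrier := by
  have h := fac_ver C.vdata (fun _ h => C.isBasic h) (fac_basic_of_starInj hX m)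
  rw [verMap_id] at h
  exact acyc_of_fac h

variable {M : Type u} [AddCommGroup M] [Module R M] {τ : Type u} [SetLike τ M] [AddSubgroupClass τ M]
  {ℳ : ℤ → τ} [Decomposition ℳ] [SetLike.GradedSMul 𝒜 ℳ]
  {M' : Type u} [AddCommGroup M'] [Module R' M'] {τ' : Type u} [SetLike τ' M'] [AddSubgroupClass τ' M']
  {ℳ' : ℤ → τ'} [Decomposition ℳ'] [SetLike.GradedSMul 𝒜' ℳ']

omit [AddCommGroup M'] [Module R' M'] in
theorem proj_eps {X : GrLC.GMod.{u} 𝒜} {f : M →ₗ[R] X.carrier} (hf : GrLC.IsGrHom ℳ X.gr f) (d : ℤ) (x : M) :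
    proj X.gr d (f x) = f (proj ℳ d x) := by
  refine spans_induction (spans_of_decomposition ℳ) x (by simp) (fun a b ha hb => by simp only [map_add, ha, hb])
    fun g a ha => ?_
  rcases eq_or_ne g d with rfl | hne
  · rw [proj_of_mem ℳ ha, proj_of_mem X.gr (hf g a ha)]
  · rw [proj_of_mem_ne ℳ ha hne, proj_of_mem_ne X.gr (hf g a ha) hne, map_zero]

/-- `M'` is, through `g`, the Veronese submodule of `M`. -/
structure VMod (ℳ : ℤ → τ) (ℳ' : ℤ → τ') (q : ℕ) (g : M' →ₛₗ[φ] M) : Prop where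
  inj : Function.Injective g
  deg : ∀ (j : ℤ) (x : M), x ∈ ℳ (j * q) ↔ ∃ y ∈ ℳ' j, g y = x

theorem vmod_of_map {ℳ : ℤ → AddSubgroup M} {ℳ' : ℤ → AddSubgroup M'} {g : M' →ₛₗ[φ] M}
    (hg : Function.Injective g) (hdeg : ∀ j : ℤ, (ℳ' j).map (g : M' →+ M) = ℳ (j * q)) : VMod ℳ ℳ' q g :=
  ⟨hg, fun j x => by rw [← hdeg j]; rfl⟩

theorem VMod.map_mem {g : M' →ₛₗ[φ] M} (W : VMod ℳ ℳ' q g) {j : ℤ} {y : M'} (hy : y ∈ ℳ' j) :
    g y ∈ ℳ (j * q) := (W.deg j _).2 ⟨y, hy, rfl⟩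

theorem VMod.mem_verSub {g : M' →ₛₗ[φ] M} (W : VMod ℳ ℳ' q g) (y : M') : g y ∈ verSub q ℳ := by
  refine spans_induction (spans_of_decomposition ℳ') y (by rw [map_zero]; exact zero_mem _)
    (fun a b ha hb => by rw [map_add]; exact add_mem ha hb) fun j a ha => ?_
  exact verSub_of_mem q ℳ (Dvd.intro_left j rfl) (W.map_mem ha)

/-- The Veronese submodules of a resolution resolve the Veronese submodule. -/
def verRes (V : VData 𝒜 𝒜' φ q) {g : M' →ₛₗ[φ] M} (W : VMod ℳ ℳ' q g) (E : GrLC.StarInjRes 𝒜 ℳ) :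
    GRes 𝒜' ℳ' where
  X n := ver V (E.X n)
  d n := verMap V (E.d_grHom n)
  ε :=
    { toFun := fun y => (⟨E.ε (g y), by
        rw [mem_verSub_iff_proj]
        intro d hd
        rw [proj_eps E.ε_grHom, (mem_verSub_iff_proj q ℳ).1 (W.mem_verSub y) d hd, map_zero]⟩ : verSub q (E.X 0).gr)
      map_add' := fun a b => verι_injective V _ (by
        show E.ε (g (a + b)) = E.ε (g a) + E.ε (g b)
        rw [map_add, map_add])
      map_smul' := fun r a => verι_injective V _ (by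
        show E.ε (g (r • a)) = φ r • E.ε (g a)
        rw [g.map_smulₛₗ, map_smul]) }
  d_grHom n := verMap_grHom V (E.d_grHom n)
  ε_grHom j y hy := E.ε_grHom (j * q) (g y) (W.map_mem hy)
  ε_injective a b h := W.inj (E.ε_injective (congrArg (verι V (E.X 0)) h))
  exact_zero := by
    refine le_antisymm (fun x hx => ?_) ?_
    · have hx' : verι V (E.X 0) x ∈ LinearMap.range E.ε := by
        rw [← E.exact_zero, LinearMap.mem_ker, ← verι_verMap V (E.d_grHom 0), LinearMap.mem_ker.1 hx]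
        rfl
      obtain ⟨v, hv⟩ := hx'
      have hvv : v ∈ verSub q ℳ := (mem_verSub_iff_proj q ℳ).2 fun d hd => E.ε_injective (by
        rw [map_zero, ← proj_eps E.ε_grHom, hv]
        exact (mem_verSub_iff_proj q (E.X 0).gr).1 (verι_mem V _ x) d hd)
      have hr : ∃ y, g y = v := by
        refine verSub_induction q ℳ V.qpos hvv (P := fun v => ∃ y, g y = v) ⟨0, map_zero g⟩ ?_ fun j a ha => ?_
        · rintro _ _ ⟨y, rfl⟩ ⟨z, rfl⟩
          exact ⟨y + z, map_add g y z⟩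
        · obtain ⟨y, -, hy⟩ := (W.deg j a).1 ha
          exact ⟨y, hy⟩
      obtain ⟨y, rfl⟩ := hr
      exact ⟨y, verι_injective V _ hv⟩
    · rintro _ ⟨y, rfl⟩
      refine verι_injective V _ ?_
      show E.d 0 (E.ε (g y)) = _
      exact (LinearMap.mem_ker.1 (E.exact_zero.ge (LinearMap.mem_range_self E.ε (g y)))).trans
        (map_zero (verι V (E.X 1))).symm
  exact_succ n := ker_verMap_eq_range V (E.d_grHom n) (E.d_grHom (n + 1)) (E.exact_succ n)

include C in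
/-- The Veronese formula for graded local cohomology. -/
theorem VCtx.exists_Hcomp_equiv [IsNoetherianRing R] {g : M' →ₛₗ[φ] M} (W : VMod ℳ ℳ' q g)
    (E : GrLC.StarInjRes 𝒜 ℳ) (F : GrLC.StarInjRes 𝒜' ℳ') (p : ℕ) (j : ℤ) :
    ∃ e : F.Hcomp m' p j ≃+ E.Hcomp m p (j * q), ∀ (c : GrLC.deg0 𝒜') (x : F.Hcomp m' p j)
      (c' : GrLC.deg0 𝒜), (c' : R) = φ c → e (c • x) = c' • e x := by
  have := C.vdata.isNoetherianRing
  let G := verRes C.vdata W E
  obtain ⟨θ, hθ, hθ'⟩ := G.exists_equiv_H m' F (fun n => C.acyc_ver (E.starInj n)) p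
  have hcoc : ∀ z : (G.X p).carrier, z ∈ G.cocyc m' p ↔ verι C.vdata (E.X p) z ∈ E.cocyc m p := by
    intro z
    constructor
    · rintro ⟨h1, h2⟩
      refine ⟨(C.gam_ver _ z).1 h1, ?_⟩
      show E.d p (verι C.vdata (E.X p) z) = 0
      exact (congrArg (verι C.vdata (E.X (p + 1))) (LinearMap.mem_ker.1 h2)).trans (map_zero _)
    · rintro ⟨h1, h2⟩
      exact ⟨(C.gam_ver _ z).2 h1, verι_injective C.vdata (E.X (p + 1)) (h2.trans (map_zero _).symm)⟩
  have hcob : ∀ z : (G.X p).carrier, z ∈ G.cobdy m' p ↔ verι C.vdata (E.X p) z ∈ E.cobdy m p := by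
    intro z
    rcases p with _ | i
    · constructor
      · intro h
        have h0 : z = 0 := (Submodule.mem_bot R').1 h
        show verι C.vdata (E.X 0) z ∈ (⊥ : Submodule R (E.X 0).carrier)
        rw [Submodule.mem_bot, h0]
        rfl
      · intro h
        have h0 : verι C.vdata (E.X 0) z = 0 := (Submodule.mem_bot R).1 h
        exact (Submodule.mem_bot R').2 (verι_injective C.vdata (E.X 0) (h0.trans (map_zero _).symm))
    · constructor
      · rintro ⟨y, hy, rfl⟩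
        exact ⟨_, (C.gam_ver _ y).1 hy, rfl⟩
      · rintro ⟨y, hy, e⟩
        obtain ⟨y', hy'⟩ := exists_verι C.vdata (vproj_mem q (E.X i).gr y)
        have hgam : vproj q (E.X i).gr y ∈ GrLC.gam m.toIdeal (E.X i).carrier := by
          classical
          rw [← sum_proj (E.X i).gr (vproj q (E.X i).gr y)]
          refine sum_mem fun d _ => ?_
          rw [proj_vproj]
          split_ifs
          · exact gam_isHomogeneous m (E.X i).gr d hy
          · exact zero_mem _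
        refine ⟨y', (C.gam_ver _ y').2 (by rw [hy']; exact hgam), verι_injective C.vdata (E.X (i + 1)) ?_⟩
        show E.d i (verι C.vdata (E.X i) y') = _
        rw [hy', ← map_vproj (E.d_grHom i), e]
        exact (mem_verSub_iff q (E.X (i + 1)).gr).1 (verι_mem C.vdata (E.X (i + 1)) z)
  let toE : G.cocyc m' p → E.cocyc m p := fun z => ⟨verι C.vdata (E.X p) z.1, (hcoc z.1).1 z.2⟩
  let ψ : (G.Hmod m' p).carrier →+ E.H m p :=
    QuotientAddGroup.lift (G.cobdyIn m' p).toAddSubgroup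
      ((E.toH m p).toAddMonoidHom.comp (AddMonoidHom.mk' toE fun a b => Subtype.ext (map_add _ _ _)))
      fun z hz => (GrLC21.toH_eq_zero_iff E m _).2 ((hcob z.1).1 hz)
  have hψ : ∀ z, ψ (G.toH m' p z) = E.toH m p (toE z) := fun z => rfl
  have hψinj : Function.Injective ψ := (injective_iff_map_eq_zero ψ).2 fun x hx => by
    obtain ⟨z, rfl⟩ := G.toH_surjective m' p x
    exact (G.toH_eq_zero_iff m' z).2 ((hcob z.1).2 ((GrLC21.toH_eq_zero_iff E m _).1 hx))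
  have hmem : ∀ x : F.Hcomp m' p j, ψ (θ.symm x.1) ∈ E.Hcomp m p (j * q) := by
    intro x
    obtain ⟨z, hz, e⟩ := (G.mem_Hmod_gr m').1 (hθ' j x.1 x.2)
    rw [← e, hψ]
    exact ⟨toE z, hz, rfl⟩
  let f : F.Hcomp m' p j →+ E.Hcomp m p (j * q) :=
    AddMonoidHom.mk' (fun x => ⟨ψ (θ.symm x.1), hmem x⟩) fun a b => Subtype.ext (by
      show ψ (θ.symm (a.1 + b.1)) = ψ (θ.symm a.1) + ψ (θ.symm b.1)
      rw [map_add, map_add])
  have hfbij : Function.Bijective f := by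
    refine ⟨fun a b h => Subtype.ext (θ.symm.injective (hψinj (congrArg Subtype.val h))), fun y => ?_⟩
    obtain ⟨z, hz, e⟩ := y.2
    obtain ⟨z', hz', e'⟩ := exists_verι_piece C.vdata hz
    have hzc : z' ∈ G.cocyc m' p := (hcoc z').2 (e' ▸ z.2)
    refine ⟨⟨θ (G.toH m' p ⟨z', hzc⟩), hθ j _ ((G.mem_Hmod_gr m').2 ⟨⟨z', hzc⟩, hz', rfl⟩)⟩, Subtype.ext ?_⟩
    show ψ (θ.symm (θ _)) = y.1
    rw [LinearEquiv.symm_apply_apply, hψ, ← e]
    exact congrArg (E.toH m p) (Subtype.ext e')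
  refine ⟨AddEquiv.ofBijective f hfbij, fun c x c' hc => Subtype.ext ?_⟩
  show ψ (θ.symm ((c : R') • x.1)) = (c' : R) • ψ (θ.symm x.1)
  rw [map_smul]
  obtain ⟨z, hz⟩ := G.toH_surjective m' p (θ.symm x.1)
  rw [← hz, ← map_smul, hψ, hψ, hc, ← map_smul]
  exact congrArg (E.toH m p) (Subtype.ext rfl)

end Groth.Agent.Ver21

namespace Groth.Agent.Ver21

variable {R : Type u} [CommRing R] {σ : Type u} [SetLike σ R] [AddSubgroupClass σ R]
  {𝒜 : ℤ → σ} [GradedRing 𝒜]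
  {R' : Type u} [CommRing R'] {σ' : Type u} [SetLike σ' R'] [AddSubgroupClass σ' R']
  {𝒜' : ℤ → σ'} [GradedRing 𝒜']
  {φ : R' →+* R} {q : ℕ}

/-- The degree zero parts of a ring and of its Veronese subring agree. -/
theorem VData.exists_deg0 (V : VData 𝒜 𝒜' φ q) :
    ∃ i : GrLC.deg0 𝒜' → GrLC.deg0 𝒜, Function.Bijective i ∧ ∀ c, (i c : R) = φ c := by
  refine ⟨fun c => ⟨φ c, by
    have h := V.map_mem (show (c : R') ∈ 𝒜' 0 from c.2)
    rwa [zero_mul] at h⟩, ⟨fun a b h => Subtype.ext (V.inj (congrArg Subtype.val h)), fun c => ?_⟩, fun c => rfl⟩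
  obtain ⟨r, hr, e⟩ := (V.deg 0 (c : R)).1 (by rw [zero_mul]; exact c.2)
  exact ⟨⟨r, hr⟩, Subtype.ext e⟩

theorem finrank_eq_of_semi (V : VData 𝒜 𝒜' φ q) {A B : Type u} [AddCommGroup A] [Module (GrLC.deg0 𝒜') A]
    [AddCommGroup B] [Module (GrLC.deg0 𝒜) B] (e : A ≃+ B)
    (he : ∀ (c : GrLC.deg0 𝒜') (x : A) (c' : GrLC.deg0 𝒜), (c' : R) = φ c → e (c • x) = c' • e x) :
    Module.finrank (GrLC.deg0 𝒜') A = Module.finrank (GrLC.deg0 𝒜) B := by
  obtain ⟨i, hi, hic⟩ := V.exists_deg0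
  unfold Module.finrank
  rw [rank_eq_of_equiv_equiv (R := GrLC.deg0 𝒜') (R' := GrLC.deg0 𝒜) i e hi fun r x => he r x (i r) (hic r)]

variable {m : HomogeneousIdeal 𝒜} {m' : HomogeneousIdeal 𝒜'}
variable {M : Type u} [AddCommGroup M] [Module R M] {τ : Type u} [SetLike τ M] [AddSubgroupClass τ M]
  {ℳ : ℤ → τ} [Decomposition ℳ] [SetLike.GradedSMul 𝒜 ℳ]
  {M' : Type u} [AddCommGroup M'] [Module R' M'] {τ' : Type u} [SetLike τ' M'] [AddSubgroupClass τ' M']
  {ℳ' : ℤ → τ'} [Decomposition ℳ'] [SetLike.GradedSMul 𝒜' ℳ']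

theorem VCtx.finrank_Hcomp (C : VCtx 𝒜 𝒜' φ q m m') [IsNoetherianRing R] {g : M' →ₛₗ[φ] M}
    (W : VMod ℳ ℳ' q g) (E : GrLC.StarInjRes 𝒜 ℳ) (F : GrLC.StarInjRes 𝒜' ℳ') (p : ℕ) (j : ℤ) :
    Module.finrank (GrLC.deg0 𝒜') (F.Hcomp m' p j) = Module.finrank (GrLC.deg0 𝒜) (E.Hcomp m p (j * q)) := by
  obtain ⟨e, he⟩ := C.exists_Hcomp_equiv W E F p j
  exact finrank_eq_of_semi C.vdata e he

theorem VCtx.van_iff (C : VCtx 𝒜 𝒜' φ q m m') [IsNoetherianRing R] {g : M' →ₛₗ[φ] M}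
    (W : VMod ℳ ℳ' q g) (p : ℕ) (j : ℤ) :
    Van m' p j (toGMod 𝒜' ℳ') ↔ Van m p (j * q) (toGMod 𝒜 ℳ) := by
  obtain ⟨E⟩ := nonempty_res (𝒜 := 𝒜) ℳ
  obtain ⟨F⟩ := nonempty_res (𝒜 := 𝒜') ℳ'
  obtain ⟨e, -⟩ := C.exists_Hcomp_equiv W E F p j
  rw [← Hcomp_eq_bot_iff_van E, ← Hcomp_eq_bot_iff_van F, ← Submodule.subsingleton_iff_eq_bot,
    ← Submodule.subsingleton_iff_eq_bot]
  exact e.toEquiv.subsingleton_congr

end Groth.Agent.Ver21
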