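import Groth.Agent.Lib.Ver21.HMap
import Groth.Agent.Lib.GrLC21.CanonPair

/-!
# The *canonical module of a Veronese subring
-/

universe u

open DirectSum
open Groth.Agent.GrLC21

noncomputable section

set_option linter.unusedSectionVars false
set_option backward.isDefEq.respectTransparency false

namespace Groth.Agent.Ver21

variable {R : Type u} [CommRing R] {σ : Type u} [SetLike σ R] [AddSubgroupClass σ R]
  {𝒜 : ℤ → σ} [GradedRing 𝒜]
  {R' : Type u} [CommRing R'] {σ' : Type u} [SetLike σ' R'] [AddSubgroupClass σ' R']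
  {𝒜' : ℤ → σ'} [GradedRing 𝒜']
  {φ : R' →+* R} {q : ℕ}

/-- The identification of the two degree-zero fields. -/
def VData.deg0Equiv (V : VData 𝒜 𝒜' φ q) : GrLC.deg0 𝒜' ≃+* GrLC.deg0 𝒜 :=
  RingEquiv.ofBijective
    ({ toFun := fun c => ⟨φ c, by
          have h := V.map_mem (show (c : R') ∈ 𝒜' 0 from c.2)
          rwa [zero_mul] at h⟩
       map_one' := Subtype.ext (map_one φ)
       map_mul' := fun a b => Subtype.ext (map_mul φ (a : R') b)
       map_zero' := Subtype.ext (map_zero φ)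
       map_add' := fun a b => Subtype.ext (map_add φ (a : R') b) } : GrLC.deg0 𝒜' →+* GrLC.deg0 𝒜)
    ⟨fun a b h => Subtype.ext (V.inj (congrArg Subtype.val h)), fun c => by
      obtain ⟨r, hr, e⟩ := (V.deg 0 (c : R)).1 (by rw [zero_mul]; exact c.2)
      exact ⟨⟨r, hr⟩, Subtype.ext e⟩⟩

theorem VData.deg0Equiv_coe (V : VData 𝒜 𝒜' φ q) (c : GrLC.deg0 𝒜') : (V.deg0Equiv c : R) = φ c := rfl

include φ in
/-- The Veronese subring is again positively graded over a field. -/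
theorem VData.fieldCtx (V : VData 𝒜 𝒜' φ q) {m : HomogeneousIdeal 𝒜} (Γ : FieldCtx 𝒜 m)
    {m' : HomogeneousIdeal 𝒜'} (hm' : GrLC.IsStarLocal 𝒜' m') : FieldCtx 𝒜' m' where
  pos j hj r hr := V.inj (by
    rw [map_zero]
    exact Γ.pos _ (mul_neg_of_neg_of_pos hj (Int.natCast_pos.2 V.qpos)) _ (V.map_mem hr))
  isField := V.deg0Equiv.toMulEquiv.isField Γ.isField
  starLocal := hm'

variable {m : HomogeneousIdeal 𝒜} {m' : HomogeneousIdeal 𝒜'}
  {E : Type u} [AddCommGroup E] [Module R E] {τE : Type u} [SetLike τE E] [AddSubgroupClass τE E]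
  {𝓔 : ℤ → τE} [Decomposition 𝓔] [SetLike.GradedSMul 𝒜 𝓔] {e : (R ⧸ m.toIdeal) →ₗ[R] E}
  {E' : Type u} [AddCommGroup E'] [Module R' E'] {τE' : Type u} [SetLike τE' E'] [AddSubgroupClass τE' E']
  {𝓔' : ℤ → τE'} [Decomposition 𝓔'] [SetLike.GradedSMul 𝒜' 𝓔'] {e' : (R' ⧸ m'.toIdeal) →ₗ[R'] E'}
  {M : Type u} [AddCommGroup M] [Module R M] {τ : Type u} [SetLike τ M] [AddSubgroupClass τ M]
  {ℳ : ℤ → τ} [Decomposition ℳ] [SetLike.GradedSMul 𝒜 ℳ]
  {M' : Type u} [AddCommGroup M'] [Module R' M'] {τ' : Type u} [SetLike τ' M'] [AddSubgroupClass τ' M']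
  {ℳ' : ℤ → τ'} [Decomposition ℳ'] [SetLike.GradedSMul 𝒜' ℳ']
  {n : ℕ} {I : GrLC.StarInjRes 𝒜 𝒜} {I' : GrLC.StarInjRes 𝒜' 𝒜'}

set_option maxHeartbeats 800000 in
/-- The *canonical module of the Veronese subring is the Veronese submodule of the *canonical module. -/
theorem VCtx.exists_semilinear_canonical [IsNoetherianRing R] (C : VCtx 𝒜 𝒜' φ q m m') (Γ : FieldCtx 𝒜 m)
    (hm' : GrLC.IsStarLocal 𝒜' m') (he : GrLC.IsStarInjHull 𝒜 (GrLC.quotGr 𝒜 m) 𝓔 e)
    (hC : GrLC.IsStarCanonical 𝒜 ℳ 𝓔 m n I)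
    (he' : GrLC.IsStarInjHull 𝒜' (GrLC.quotGr 𝒜' m') 𝓔' e')
    (hC' : GrLC.IsStarCanonical 𝒜' ℳ' 𝓔' m' n I') :
    ∃ g : M' →ₛₗ[φ] M, VMod ℳ ℳ' q g := by
  classical
  have V := C.vdata
  have Γ' := V.fieldCtx Γ hm'
  have := V.isNoetherianRing
  obtain ⟨hfin, Φ, hΦ⟩ := hC
  obtain ⟨hfin', Φ', hΦ'⟩ := hC'
  let g₀ : R' →ₛₗ[φ] R := { toFun := φ, map_add' := map_add φ, map_smul' := fun r x => map_mul φ r x }
  have W₀ : VMod 𝒜 𝒜' q g₀ := ⟨V.inj, V.deg⟩
  obtain ⟨ψ, hψinj, hψ⟩ := C.exists_H_semilinear W₀ I I' n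
  let i := V.deg0Equiv
  have hψ_deg0 : ∀ (c : GrLC.deg0 𝒜') (x : I'.H m' n), ψ ((c : R') • x) = (i c : R) • ψ x :=
    fun c x => ψ.map_smulₛₗ _ _
  -- the relation between the two pieces
  let Rel : ℤ → M' → M → Prop := fun j y x =>
    ∀ h ∈ I'.Hcomp m' n (-j), Γ.pairing he Φ x (ψ h) = i (Γ'.pairing he' Φ' y h)
  have hsurj : ∀ (j : ℤ) (h : I.H m n), h ∈ I.Hcomp m n (-(j * q)) → ∃ h' ∈ I'.Hcomp m' n (-j), ψ h' = h :=
    fun j h hh => (hψ (-j) h).1 (by rwa [neg_mul])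
  have hex : ∀ j, ∀ y ∈ ℳ' j, ∃ x ∈ ℳ (j * q), Rel j y x := by
    intro j y hy
    choose pre hpre hpre' using hsurj j
    let lam : I.Hcomp m n (-(j * q)) →ₗ[GrLC.deg0 𝒜] GrLC.deg0 𝒜 :=
      { toFun := fun h => i (Γ'.pairing he' Φ' y (pre h.1 h.2))
        map_add' := fun a b => by
          rw [← map_add i, ← map_add]
          refine congrArg _ (congrArg _ (hψinj ?_))
          rw [map_add, hpre', hpre', hpre']
          rfl
        map_smul' := fun s a => by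
          obtain ⟨s', rfl⟩ := i.surjective s
          rw [RingHom.id_apply, smul_eq_mul, ← map_mul i, ← Γ'.pairing_deg0_smul]
          refine congrArg _ (congrArg _ (hψinj ?_))
          rw [hψ_deg0, hpre', hpre']
          rfl }
    obtain ⟨x, hx, hlam⟩ := Γ.exists_pairing_eq he Φ hΦ (j * q) lam
    refine ⟨x, hx, fun h hh => ?_⟩
    have hmem : ψ h ∈ I.Hcomp m n (-(j * q)) := by
      rw [← neg_mul]; exact (hψ (-j) _).2 ⟨h, hh, rfl⟩
    refine (hlam ⟨ψ h, hmem⟩).trans ?_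
    show i (Γ'.pairing he' Φ' y (pre (ψ h) hmem)) = _
    rw [hψinj (hpre' (ψ h) hmem)]
  have hex' : ∀ j, ∀ x ∈ ℳ (j * q), ∃ y ∈ ℳ' j, Rel j y x := by
    intro j x hx
    let lam : I'.Hcomp m' n (-j) →ₗ[GrLC.deg0 𝒜'] GrLC.deg0 𝒜' :=
      { toFun := fun h => i.symm (Γ.pairing he Φ x (ψ h.1))
        map_add' := fun a b => by
          rw [← map_add i.symm, ← map_add, ← map_add]
          rfl
        map_smul' := fun s a => by
          refine i.injective ?_
          rw [RingHom.id_apply, smul_eq_mul, map_mul i, RingEquiv.apply_symm_apply, RingEquiv.apply_symm_apply,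
            ← Γ.pairing_deg0_smul, ← hψ_deg0]
          rfl }
    obtain ⟨y, hy, hlam⟩ := Γ'.exists_pairing_eq he' Φ' hΦ' j lam
    refine ⟨y, hy, fun h hh => ?_⟩
    rw [hlam ⟨h, hh⟩]
    exact (i.apply_symm_apply _).symm
  have huniq : ∀ j, ∀ (y : M') (x x' : M), x ∈ ℳ (j * q) → x' ∈ ℳ (j * q) → Rel j y x → Rel j y x' → x = x' := by
    intro j y x x' hx hx' h1 h2
    rw [← sub_eq_zero]
    refine Γ.eq_zero_of_pairing he Φ hΦ (sub_mem hx hx') fun h hh => ?_
    obtain ⟨h', hh', rfl⟩ := hsurj j h hh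
    have h3 := Γ.pairing_add_left he Φ (x - x') x' (ψ h')
    rw [sub_add_cancel, h1 h' hh', h2 h' hh'] at h3
    exact left_eq_add.1 (h3.trans (add_comm _ _))
  have huniq' : ∀ j, ∀ y ∈ ℳ' j, Rel j y 0 → y = 0 := fun j y hy h0 =>
    Γ'.eq_zero_of_pairing he' Φ' hΦ' hy fun h hh => i.injective (by
      rw [map_zero, ← h0 h hh, Γ.pairing_zero_left])
  choose f hf hfR using hex
  have hf_add : ∀ j (a b : ℳ' j), f j (a + b : ℳ' j).1 (a + b : ℳ' j).2 = f j a.1 a.2 + f j b.1 b.2 := fun j a b =>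
    huniq j _ _ _ (hf _ _ _) (add_mem (hf _ _ _) (hf _ _ _)) (hfR _ _ _) fun h hh => by
      rw [Γ.pairing_add_left, hfR j a.1 a.2 h hh, hfR j b.1 b.2 h hh, ← map_add i]
      exact congrArg i (Γ'.pairing_add_left he' Φ' a.1 b.1 h).symm
  let G : M' →+ M := (DirectSum.toAddMonoid fun j =>
      AddMonoidHom.mk' (fun a : ℳ' j => f j a.1 a.2) (hf_add j)).comp
    (DirectSum.decomposeAddEquiv ℳ').toAddMonoidHom
  have hG : ∀ j, ∀ y (hy : y ∈ ℳ' j), G y = f j y hy := fun j y hy => by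
    show DirectSum.toAddMonoid _ (DirectSum.decompose ℳ' y) = _
    rw [DirectSum.decompose_of_mem ℳ' hy, DirectSum.toAddMonoid_of]
    rfl
  let g : M' →ₛₗ[φ] M :=
    { toFun := G
      map_add' := map_add G
      map_smul' := fun r y => by
        refine spans_induction (spans_of_decomposition 𝒜') r (by simp)
          (fun a b ha hb => by simp only [add_smul, map_add, ha, hb]) fun a r hr => ?_
        refine spans_induction (spans_of_decomposition ℳ') y (by simp)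
          (fun b c hb hc => by simp only [smul_add, map_add, hb, hc]) fun j y hy => ?_
        rw [hG _ _ (GrLC21.smul_mem 𝒜' ℳ' hr hy), hG _ _ hy]
        refine huniq (a + j) (r • y) _ _ (hf _ _ _) ?_ (hfR _ _ _) fun h hh => ?_
        · rw [add_mul]
          exact GrLC21.smul_mem 𝒜 ℳ (V.map_mem hr) (hf _ _ _)
        · have hmem : r • h ∈ I'.Hcomp m' n (-j) := by
            have := smul_mem_Hgr I' m' a (-(a + j)) r h hr hh
            rwa [show a + -(a + j) = -j by omega] at this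
          rw [Γ.pairing_smul, ← ψ.map_smulₛₗ, hfR j y hy _ hmem, Γ'.pairing_smul] }
  have hproj : ∀ j y, proj ℳ (j * q) (g y) = g (proj ℳ' j y) := fun j y => by
    refine spans_induction (spans_of_decomposition ℳ') y (by simp) (fun a b ha hb => by simp only [map_add, ha, hb])
      fun l a ha => ?_
    have hga : g a ∈ ℳ (l * q) := (hG l a ha).symm ▸ hf l a ha
    rcases eq_or_ne l j with rfl | hlj
    · rw [proj_of_mem ℳ' ha, proj_of_mem ℳ hga]
    · rw [proj_of_mem_ne ℳ' ha hlj, map_zero, proj_of_mem_ne ℳ hga fun e =>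
        hlj (mul_right_cancel₀ (by exact_mod_cast V.qpos.ne') e)]
  refine ⟨g, (injective_iff_map_eq_zero g).2 fun y hy => ext_proj ℳ' fun j => ?_, fun j x => ⟨fun hx => ?_, ?_⟩⟩
  · rw [map_zero]
    refine huniq' j _ (proj_mem ℳ' j y) ?_
    have h0 : g (proj ℳ' j y) = 0 := by rw [← hproj, hy, map_zero]
    rw [← h0]
    exact (hG j _ (proj_mem ℳ' j y)).symm ▸ hfR j _ _
  · obtain ⟨y, hy, hR⟩ := hex' j x hx
    exact ⟨y, hy, (hG j y hy).trans (huniq j y _ _ (hf _ _ _) hx (hfR _ _ _) hR)⟩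
  · rintro ⟨y, hy, rfl⟩
    exact (hG j y hy).symm ▸ hf j y hy

end Groth.Agent.Ver21
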