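import Groth.Agent.Lib.Ver21.Acyclic

/-!
# The semilinear map on local cohomology attached to a Veronese submodule
-/

universe u

open DirectSum
open Groth.Agent.GrLC21

noncomputable section

set_option linter.unusedSectionVars false
set_option backward.isDefEq.respectTransparency false

namespace Groth.Agent.Ver21

variable {R : Type u} [CommRing R] {σ : Type u} [SetLike σ R] [AddSubgroupClass σ R]
  {𝒜 : ℤ → σ} [GradedRing 𝒜]
  {R' : Type u} [CommRing R'] {σ' : Type u} [SetLike σ' R'] [AddSubgroupClass σ' R']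
  {𝒜' : ℤ → σ'} [GradedRing 𝒜']
  {φ : R' →+* R} {q : ℕ} {m : HomogeneousIdeal 𝒜} {m' : HomogeneousIdeal 𝒜'} (C : VCtx 𝒜 𝒜' φ q m m')
variable {M : Type u} [AddCommGroup M] [Module R M] {τ : Type u} [SetLike τ M] [AddSubgroupClass τ M]
  {ℳ : ℤ → τ} [Decomposition ℳ] [SetLike.GradedSMul 𝒜 ℳ]
  {M' : Type u} [AddCommGroup M'] [Module R' M'] {τ' : Type u} [SetLike τ' M'] [AddSubgroupClass τ' M']
  {ℳ' : ℤ → τ'} [Decomposition ℳ'] [SetLike.GradedSMul 𝒜' ℳ']

include C in
/-- The cohomology of the Veronese submodule sits semilinearly inside the cohomology of the module. -/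
theorem VCtx.exists_H_semilinear [IsNoetherianRing R] {g : M' →ₛₗ[φ] M} (W : VMod ℳ ℳ' q g)
    (E : GrLC.StarInjRes 𝒜 ℳ) (F : GrLC.StarInjRes 𝒜' ℳ') (p : ℕ) :
    ∃ ψ : F.H m' p →ₛₗ[φ] E.H m p, Function.Injective ψ ∧
      ∀ (j : ℤ) (y : E.H m p), y ∈ E.Hcomp m p (j * q) ↔ ∃ x ∈ F.Hcomp m' p j, ψ x = y := by
  have := C.vdata.isNoetherianRing
  let G := verRes C.vdata W E
  obtain ⟨θ, hθ, hθ'⟩ := G.exists_equiv_H m' F (fun n => C.acyc_ver (E.starInj n)) p
  have hcoc : ∀ z : (G.X p).carrier, z ∈ G.cocyc m' p ↔ verι C.vdata (E.X p) z ∈ E.cocyc m p := by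
    intro z
    constructor
    · rintro ⟨h1, h2⟩
      refine ⟨(C.gam_ver _ z).1 h1, ?_⟩
      show E.d p (verι C.vdata (E.X p) z) = 0
      exact (congrArg (verι C.vdata (E.X (p + 1))) (LinearMap.mem_ker.1 h2)).trans (map_zero _)
    · rintro ⟨h1, h2⟩
      exact ⟨(C.gam_ver _ z).2 h1, verι_injective C.vdata (E.X (p + 1)) (h2.trans (map_zero _).symm)⟩
  have hcob : ∀ z : (G.X p).carrier, z ∈ G.cobdy m' p ↔ verι C.vdata (E.X p) z ∈ E.cobdy m p := by
    intro z
    rcases p with _ | i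
    · constructor
      · intro h
        have h0 : z = 0 := (Submodule.mem_bot R').1 h
        show verι C.vdata (E.X 0) z ∈ (⊥ : Submodule R (E.X 0).carrier)
        rw [Submodule.mem_bot, h0]
        rfl
      · intro h
        have h0 : verι C.vdata (E.X 0) z = 0 := (Submodule.mem_bot R).1 h
        exact (Submodule.mem_bot R').2 (verι_injective C.vdata (E.X 0) (h0.trans (map_zero _).symm))
    · constructor
      · rintro ⟨y, hy, rfl⟩
        exact ⟨_, (C.gam_ver _ y).1 hy, rfl⟩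
      · rintro ⟨y, hy, e⟩
        obtain ⟨y', hy'⟩ := exists_verι C.vdata (vproj_mem q (E.X i).gr y)
        have hgam : vproj q (E.X i).gr y ∈ GrLC.gam m.toIdeal (E.X i).carrier := by
          classical
          rw [← sum_proj (E.X i).gr (vproj q (E.X i).gr y)]
          refine sum_mem fun d _ => ?_
          rw [proj_vproj]
          split_ifs
          · exact gam_isHomogeneous m (E.X i).gr d hy
          · exact zero_mem _
        refine ⟨y', (C.gam_ver _ y').2 (by rw [hy']; exact hgam), verι_injective C.vdata (E.X (i + 1)) ?_⟩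
        show E.d i (verι C.vdata (E.X i) y') = _
        rw [hy', ← map_vproj (E.d_grHom i), e]
        exact (mem_verSub_iff q (E.X (i + 1)).gr).1 (verι_mem C.vdata (E.X (i + 1)) z)
  let toE : G.cocyc m' p → E.cocyc m p := fun z => ⟨verι C.vdata (E.X p) z.1, (hcoc z.1).1 z.2⟩
  let ψ : (G.Hmod m' p).carrier →+ E.H m p :=
    QuotientAddGroup.lift (G.cobdyIn m' p).toAddSubgroup
      ((E.toH m p).toAddMonoidHom.comp (AddMonoidHom.mk' toE fun a b => Subtype.ext (map_add _ _ _)))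
      fun z hz => (GrLC21.toH_eq_zero_iff E m _).2 ((hcob z.1).1 hz)
  have hψ : ∀ z, ψ (G.toH m' p z) = E.toH m p (toE z) := fun z => rfl
  have hψinj : Function.Injective ψ := (injective_iff_map_eq_zero ψ).2 fun x hx => by
    obtain ⟨z, rfl⟩ := G.toH_surjective m' p x
    exact (G.toH_eq_zero_iff m' z).2 ((hcob z.1).2 ((GrLC21.toH_eq_zero_iff E m _).1 hx))
  let Ψ : F.H m' p →ₛₗ[φ] E.H m p :=
    { toFun := fun x => ψ (θ.symm x)
      map_add' := fun a b => by rw [map_add, map_add]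
      map_smul' := fun r x => by
        obtain ⟨z, hz⟩ := G.toH_surjective m' p (θ.symm x)
        rw [map_smul, ← hz, ← map_smul, hψ, hψ, ← map_smul]
        exact congrArg (E.toH m p) (Subtype.ext rfl) }
  refine ⟨Ψ, fun a b h => θ.symm.injective (hψinj h), fun j y => ⟨fun hy => ?_, ?_⟩⟩
  · obtain ⟨z, hz, e⟩ := hy
    obtain ⟨z', hz', e'⟩ := exists_verι_piece C.vdata hz
    have hzc : z' ∈ G.cocyc m' p := (hcoc z').2 (e' ▸ z.2)
    refine ⟨θ (G.toH m' p ⟨z', hzc⟩), hθ j _ ((G.mem_Hmod_gr m').2 ⟨⟨z', hzc⟩, hz', rfl⟩), ?_⟩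
    show ψ (θ.symm (θ _)) = y
    rw [LinearEquiv.symm_apply_apply, hψ, ← e]
    exact congrArg (E.toH m p) (Subtype.ext e')
  · rintro ⟨x, hx, rfl⟩
    obtain ⟨z, hz, e⟩ := (G.mem_Hmod_gr m').1 (hθ' j x hx)
    show ψ (θ.symm x) ∈ E.Hcomp m p (j * q)
    rw [← e, hψ]
    exact ⟨toE z, hz, rfl⟩

end Groth.Agent.Ver21
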