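import Groth.Agent.Lib.GrLC21.Split
import Groth.Agent.Lib.GrLC21.AcyclicRes
import Groth.Agent.Lib.GrLC21.Coarsen
import Groth.Agent.Lib.GrLC21.Pieces
import Mathlib.Data.ZMod.Basic

/-!
# Veronese submodules of graded modules
-/

universe u

open DirectSum
open Groth.Agent.GrLC21

noncomputable section

set_option linter.unusedSectionVars false
set_option backward.isDefEq.respectTransparency false

namespace Groth.Agent.Ver21

variable {R : Type u} [CommRing R] {σ : Type u} [SetLike σ R] [AddSubgroupClass σ R]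
  {𝒜 : ℤ → σ} [GradedRing 𝒜]
  {R' : Type u} [CommRing R'] {σ' : Type u} [SetLike σ' R'] [AddSubgroupClass σ' R']
  {𝒜' : ℤ → σ'} [GradedRing 𝒜']

/-- `R'` is, through `φ`, the `q`-th Veronese subring of `R`. -/
structure VData (𝒜 : ℤ → σ) (𝒜' : ℤ → σ') (φ : R' →+* R) (q : ℕ) : Prop where
  qpos : 0 < q
  inj : Function.Injective φ
  deg : ∀ (j : ℤ) (x : R), x ∈ 𝒜 (j * q) ↔ ∃ r ∈ 𝒜' j, φ r = x

theorem vdata_of_map {𝒜 : ℤ → AddSubgroup R} {𝒜' : ℤ → AddSubgroup R'} {φ : R' →+* R} {q : ℕ} (hq : 0 < q)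
    (hφ : Function.Injective φ) (hdeg : ∀ j : ℤ, (𝒜' j).map (φ : R' →+ R) = 𝒜 (j * q)) : VData 𝒜 𝒜' φ q :=
  ⟨hq, hφ, fun j x => by rw [← hdeg j]; rfl⟩

variable {φ : R' →+* R} {q : ℕ} (V : VData 𝒜 𝒜' φ q)

theorem castAddHom_eq_zero {g : ℤ} : Int.castAddHom (ZMod q) g = 0 ↔ (q : ℤ) ∣ g :=
  ZMod.intCast_zmod_eq_zero_iff_dvd g q

section Proj

variable (q) {M : Type u} [AddCommGroup M] {τ : Type u} [SetLike τ M] [AddSubgroupClass τ M]
  (ℳ : ℤ → τ) [Decomposition ℳ]

/-- The projection to the degrees divisible by `q`. -/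
def vproj : M →+ M := coarseProj (Int.castAddHom (ZMod q)) ℳ 0

theorem vproj_of_dvd {g : ℤ} (h : (q : ℤ) ∣ g) {x : M} (hx : x ∈ ℳ g) : vproj q ℳ x = x := by
  rw [vproj, coarseProj_of_mem _ ℳ hx, if_pos (castAddHom_eq_zero.2 h)]

theorem vproj_of_not_dvd {g : ℤ} (h : ¬ (q : ℤ) ∣ g) {x : M} (hx : x ∈ ℳ g) : vproj q ℳ x = 0 := by
  rw [vproj, coarseProj_of_mem _ ℳ hx, if_neg fun e => h (castAddHom_eq_zero.1 e)]

/-- The subgroup of sums of pieces of degree divisible by `q`. -/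
def verSub : AddSubgroup M := (vproj q ℳ - AddMonoidHom.id M).ker

theorem mem_verSub_iff {x : M} : x ∈ verSub q ℳ ↔ vproj q ℳ x = x := sub_eq_zero

theorem proj_vproj (g : ℤ) (x : M) :
    proj ℳ g (vproj q ℳ x) = if (q : ℤ) ∣ g then proj ℳ g x else 0 := by
  refine spans_induction (spans_of_decomposition ℳ) x (by simp) (fun a b ha hb => ?_) fun i a ha => ?_
  · simp only [map_add, ha, hb]
    split_ifs <;> simp
  · by_cases hi : (q : ℤ) ∣ i
    · rw [vproj_of_dvd q ℳ hi ha]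
      rcases eq_or_ne i g with rfl | hne
      · rw [if_pos hi]
      · rw [proj_of_mem_ne ℳ ha hne]; simp
    · rw [vproj_of_not_dvd q ℳ hi ha, map_zero]
      rcases eq_or_ne i g with rfl | hne
      · rw [if_neg hi]
      · rw [proj_of_mem_ne ℳ ha hne]; simp

theorem vproj_mem (x : M) : vproj q ℳ x ∈ verSub q ℳ := by
  rw [mem_verSub_iff]
  refine ext_proj ℳ fun g => ?_
  rw [proj_vproj, proj_vproj]
  split_ifs <;> rfl

theorem mem_verSub_iff_proj {x : M} : x ∈ verSub q ℳ ↔ ∀ g, ¬ (q : ℤ) ∣ g → proj ℳ g x = 0 := by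
  rw [mem_verSub_iff]
  refine ⟨fun h g hg => by rw [← h, proj_vproj, if_neg hg], fun h => ext_proj ℳ fun g => ?_⟩
  rw [proj_vproj]
  split_ifs with hg
  · rfl
  · rw [h g hg]

theorem verSub_of_mem {g : ℤ} (h : (q : ℤ) ∣ g) {x : M} (hx : x ∈ ℳ g) : x ∈ verSub q ℳ :=
  (mem_verSub_iff q ℳ).2 (vproj_of_dvd q ℳ h hx)

theorem verSub_induction (hq : 0 < q) {x : M} (hx : x ∈ verSub q ℳ) {P : M → Prop} (h0 : P 0)
    (hadd : ∀ a b, P a → P b → P (a + b)) (hh : ∀ (j : ℤ), ∀ a ∈ ℳ (j * q), P a) : P x := by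
  classical
  rw [← sum_proj ℳ x]
  refine Finset.sum_induction _ P hadd h0 fun g hg => ?_
  obtain ⟨j, rfl⟩ : (q : ℤ) ∣ g := by_contra fun h => (mem_degs ℳ).1 hg ((mem_verSub_iff_proj q ℳ).1 hx g h)
  exact hh j _ (by rw [mul_comm]; exact proj_mem ℳ _ x)

end Proj

include V in
theorem VData.map_mem {j : ℤ} {r : R'} (hr : r ∈ 𝒜' j) : φ r ∈ 𝒜 (j * q) := (V.deg j _).2 ⟨r, hr, rfl⟩

include V in
theorem VData.proj_map (r : R') (g : ℤ) :
    (∀ j, g = j * q → proj 𝒜 g (φ r) = φ (proj 𝒜' j r)) ∧ (¬ (q : ℤ) ∣ g → proj 𝒜 g (φ r) = 0) := by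
  refine spans_induction (spans_of_decomposition 𝒜') r ⟨fun j _ => by simp, fun _ => by simp⟩
    (fun a b ha hb => ⟨fun j hj => by simp only [map_add]; rw [ha.1 j hj, hb.1 j hj],
      fun hg => by simp only [map_add]; rw [ha.2 hg, hb.2 hg, add_zero]⟩) fun i a ha => ⟨fun j hj => ?_, fun hg => ?_⟩
  · rcases eq_or_ne i j with rfl | hij
    · rw [hj, proj_of_mem 𝒜 (V.map_mem ha), proj_of_mem 𝒜' ha]
    · rw [proj_of_mem_ne 𝒜' ha hij, map_zero, proj_of_mem_ne 𝒜 (V.map_mem ha)]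
      rw [hj]
      intro e
      exact hij (mul_right_cancel₀ (by exact_mod_cast V.qpos.ne') e)
  · refine proj_of_mem_ne 𝒜 (V.map_mem ha) fun e => hg ⟨i, ?_⟩
    rw [← e, mul_comm]

include V in
theorem VData.mem_range_iff (x : R) : x ∈ φ.range ↔ x ∈ verSub q 𝒜 := by
  constructor
  · rintro ⟨r, rfl⟩
    exact (mem_verSub_iff_proj q 𝒜).2 fun g hg => (V.proj_map r g).2 hg
  · intro hx
    refine verSub_induction q 𝒜 V.qpos hx φ.range.zero_mem (fun _ _ => φ.range.add_mem) fun j a ha => ?_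
    obtain ⟨r, -, rfl⟩ := (V.deg j a).1 ha
    exact ⟨r, rfl⟩

section Module

variable {M : Type u} [AddCommGroup M] [Module R M] {τ : Type u} [SetLike τ M] [AddSubgroupClass τ M]
  (ℳ : ℤ → τ) [Decomposition ℳ] [SetLike.GradedSMul 𝒜 ℳ]

include V in
theorem VData.vproj_smul (r : R') (x : M) : vproj q ℳ (φ r • x) = φ r • vproj q ℳ x := by
  refine spans_induction (spans_of_decomposition 𝒜') r (by simp) (fun a b ha hb => by
    simp only [map_add, add_smul, ha, hb]) fun j a ha => ?_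
  refine ext_proj ℳ fun g => ?_
  rw [proj_vproj, proj_smul 𝒜 ℳ (V.map_mem ha), proj_smul 𝒜 ℳ (V.map_mem ha), proj_vproj]
  have hiff : (q : ℤ) ∣ g - j * q ↔ (q : ℤ) ∣ g := dvd_sub_left (Dvd.intro_left j rfl)
  by_cases h : (q : ℤ) ∣ g
  · rw [if_pos h, if_pos (hiff.2 h)]
  · rw [if_neg h, if_neg fun e => h (hiff.1 e), smul_zero]

include V in
theorem VData.smul_mem_verSub (r : R') {x : M} (hx : x ∈ verSub q ℳ) : φ r • x ∈ verSub q ℳ := by
  rw [mem_verSub_iff, V.vproj_smul, (mem_verSub_iff q ℳ).1 hx]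

end Module

/-- The action of the Veronese ring on the Veronese submodule. -/
@[implicit_reducible]
def verModule (X : GrLC.GMod.{u} 𝒜) : Module R' (verSub q X.gr) :=
  letI : SMul R' (verSub q X.gr) := ⟨fun r x => ⟨φ r • x.1, V.smul_mem_verSub X.gr r x.2⟩⟩
  { one_smul := fun x => Subtype.ext ((congrArg (· • x.1) (map_one φ)).trans (one_smul _ _))
    mul_smul := fun a b x => Subtype.ext ((congrArg (· • x.1) (map_mul φ a b)).trans (mul_smul _ _ _))
    smul_zero := fun a => Subtype.ext (smul_zero _)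
    smul_add := fun a x y => Subtype.ext (smul_add _ _ _)
    add_smul := fun a b x => Subtype.ext ((congrArg (· • x.1) (map_add φ a b)).trans (add_smul _ _ _))
    zero_smul := fun x => Subtype.ext ((congrArg (· • x.1) (map_zero φ)).trans (zero_smul _ _)) }

/-- The Veronese submodule of a graded module. -/
def ver (X : GrLC.GMod.{u} 𝒜) : GrLC.GMod.{u} 𝒜' :=
  letI := verModule V X
  mkGMod (verSub q X.gr) (fun j => (X.gr (j * q)).comap (verSub q X.gr).subtype)
    (isInternal_of_proj _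
      (fun j => (((proj X.gr (j * q))).comp (verSub q X.gr).subtype).codRestrict (verSub q X.gr)
        fun x => verSub_of_mem q X.gr (Dvd.intro_left j rfl) (proj_mem X.gr _ _))
      (fun _ x hx => Subtype.ext (proj_of_mem X.gr hx))
      (fun g h e x hx => Subtype.ext (proj_of_mem_ne X.gr hx fun e' =>
        e (mul_right_cancel₀ (by exact_mod_cast V.qpos.ne') e').symm))
      fun x => by
        have key : ∀ y, y ∈ verSub q X.gr → ∃ z : verSub q X.gr, (z : X.carrier) = y ∧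
            z ∈ ⨆ j : ℤ, AddSubgroup.ofClass ((X.gr (j * q)).comap (verSub q X.gr).subtype) := by
          intro y hy
          refine verSub_induction q X.gr V.qpos hy (P := fun y => ∃ z : verSub q X.gr, (z : X.carrier) = y ∧
            z ∈ ⨆ j : ℤ, AddSubgroup.ofClass ((X.gr (j * q)).comap (verSub q X.gr).subtype))
            ⟨0, rfl, zero_mem _⟩ ?_ fun j a ha => ?_
          · rintro _ _ ⟨z, rfl, hz⟩ ⟨w, rfl, hw⟩
            exact ⟨z + w, rfl, add_mem hz hw⟩
          · exact ⟨⟨a, verSub_of_mem q X.gr (Dvd.intro_left j rfl) ha⟩, rfl, AddSubgroup.mem_iSup_of_mem j ha⟩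
        obtain ⟨z, hz, hmem⟩ := key x.1 x.2
        rw [← Subtype.ext hz]
        exact hmem)
    fun a g r x hr hx => by
      show φ r • (x : X.carrier) ∈ X.gr ((a + g) * q)
      rw [add_mul]
      exact GrLC21.smul_mem 𝒜 X.gr (V.map_mem hr) hx

/-- The inclusion of the Veronese submodule. -/
def verι (X : GrLC.GMod.{u} 𝒜) : (ver V X).carrier →+ X.carrier := (verSub q X.gr).subtype

theorem verι_injective (X : GrLC.GMod.{u} 𝒜) : Function.Injective (verι V X) := fun _ _ h => Subtype.ext h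

theorem verι_smul (X : GrLC.GMod.{u} 𝒜) (r : R') (x : (ver V X).carrier) :
    verι V X (r • x) = φ r • verι V X x := rfl

theorem verι_mem (X : GrLC.GMod.{u} 𝒜) (x : (ver V X).carrier) : verι V X x ∈ verSub q X.gr :=
  (x : verSub q X.gr).2

theorem exists_verι {X : GrLC.GMod.{u} 𝒜} {y : X.carrier} (hy : y ∈ verSub q X.gr) :
    ∃ x, verι V X x = y := ⟨(⟨y, hy⟩ : verSub q X.gr), rfl⟩

theorem mem_ver_gr {X : GrLC.GMod.{u} 𝒜} {j : ℤ} {x : (ver V X).carrier} :
    x ∈ (ver V X).gr j ↔ verι V X x ∈ X.gr (j * q) := Iff.rfl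

theorem exists_verι_piece {X : GrLC.GMod.{u} 𝒜} {j : ℤ} {y : X.carrier} (hy : y ∈ X.gr (j * q)) :
    ∃ x ∈ (ver V X).gr j, verι V X x = y :=
  ⟨(⟨y, verSub_of_mem q X.gr (Dvd.intro_left j rfl) hy⟩ : verSub q X.gr), hy, rfl⟩

section Map

variable {X Y Z : GrLC.GMod.{u} 𝒜}

theorem map_vproj {f : X.carrier →ₗ[R] Y.carrier} (hf : GrLC.IsGrHom X.gr Y.gr f) (x : X.carrier) :
    vproj q Y.gr (f x) = f (vproj q X.gr x) := by
  refine spans_induction (spans_of_decomposition X.gr) x (by simp)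
    (fun a b ha hb => by simp only [map_add, ha, hb]) fun g a ha => ?_
  by_cases h : (q : ℤ) ∣ g
  · rw [vproj_of_dvd q X.gr h ha, vproj_of_dvd q Y.gr h (hf g a ha)]
  · rw [vproj_of_not_dvd q X.gr h ha, vproj_of_not_dvd q Y.gr h (hf g a ha), map_zero]

/-- The map of Veronese submodules. -/
def verMap {f : X.carrier →ₗ[R] Y.carrier} (hf : GrLC.IsGrHom X.gr Y.gr f) :
    (ver V X).carrier →ₗ[R'] (ver V Y).carrier where
  toFun x := (⟨f (verι V X x), by
    rw [mem_verSub_iff, map_vproj hf, (mem_verSub_iff q X.gr).1 (verι_mem V X x)]⟩ : verSub q Y.gr)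
  map_add' a b := verι_injective V Y (by
    show f (verι V X (a + b)) = f (verι V X a) + f (verι V X b)
    rw [map_add, map_add])
  map_smul' r x := verι_injective V Y (by
    show f (verι V X (r • x)) = φ r • f (verι V X x)
    rw [verι_smul, map_smul])

theorem verι_verMap {f : X.carrier →ₗ[R] Y.carrier} (hf : GrLC.IsGrHom X.gr Y.gr f) (x : (ver V X).carrier) :
    verι V Y (verMap V hf x) = f (verι V X x) := rfl

theorem verMap_grHom {f : X.carrier →ₗ[R] Y.carrier} (hf : GrLC.IsGrHom X.gr Y.gr f) :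
    GrLC.IsGrHom (ver V X).gr (ver V Y).gr (verMap V hf) := fun j x hx => hf _ _ hx

theorem verMap_id : verMap V (isGrHom_id X.gr) = LinearMap.id := LinearMap.ext fun _ => rfl

theorem verMap_zero (h : GrLC.IsGrHom X.gr Y.gr (0 : X.carrier →ₗ[R] Y.carrier)) : verMap V h = 0 :=
  LinearMap.ext fun _ => rfl

theorem verMap_comp {f : X.carrier →ₗ[R] Y.carrier} {g : Y.carrier →ₗ[R] Z.carrier}
    (hg : GrLC.IsGrHom Y.gr Z.gr g) (hf : GrLC.IsGrHom X.gr Y.gr f) :
    verMap V (isGrHom_comp hg hf) = verMap V hg ∘ₗ verMap V hf := LinearMap.ext fun _ => rfl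

theorem verMap_add {f g : X.carrier →ₗ[R] Y.carrier} (hf : GrLC.IsGrHom X.gr Y.gr f)
    (hg : GrLC.IsGrHom X.gr Y.gr g) : verMap V (isGrHom_add hf hg) = verMap V hf + verMap V hg :=
  LinearMap.ext fun _ => rfl

theorem verMap_injective {f : X.carrier →ₗ[R] Y.carrier} (hf : GrLC.IsGrHom X.gr Y.gr f)
    (hi : Function.Injective f) : Function.Injective (verMap V hf) := fun x y h =>
  verι_injective V X (hi ((verι_verMap V hf x).symm.trans ((congrArg (verι V Y) h).trans (verι_verMap V hf y))))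

theorem mem_range_verMap {f : X.carrier →ₗ[R] Y.carrier} (hf : GrLC.IsGrHom X.gr Y.gr f)
    {y : (ver V Y).carrier} (h : verι V Y y ∈ LinearMap.range f) : y ∈ LinearMap.range (verMap V hf) := by
  obtain ⟨x, hx⟩ := h
  obtain ⟨x', hx'⟩ := exists_verι V (vproj_mem q X.gr x)
  refine ⟨x', verι_injective V Y ?_⟩
  rw [verι_verMap, hx', ← map_vproj hf, hx, (mem_verSub_iff q Y.gr).1 (verι_mem V Y y)]

theorem ker_verMap_eq_range {f : X.carrier →ₗ[R] Y.carrier} (hf : GrLC.IsGrHom X.gr Y.gr f)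
    {g : Y.carrier →ₗ[R] Z.carrier} (hg : GrLC.IsGrHom Y.gr Z.gr g) (h : LinearMap.ker g = LinearMap.range f) :
    LinearMap.ker (verMap V hg) = LinearMap.range (verMap V hf) := by
  refine le_antisymm (fun y hy => mem_range_verMap V hf (h.le ?_)) ?_
  · rw [LinearMap.mem_ker, ← verι_verMap V hg, LinearMap.mem_ker.1 hy]
    rfl
  · rintro _ ⟨x, rfl⟩
    refine verι_injective V Z ?_
    rw [verι_verMap, verι_verMap]
    exact (LinearMap.mem_ker.1 (h.ge (LinearMap.mem_range_self f _))).trans (map_zero (verι V Z)).symm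

end Map

end Groth.Agent.Ver21
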