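import Groth.Agent.Lib.Ver21.Gor
import Groth.Agent.Lib.GrLC21.CanonType
import Groth.Agent.S18672

/-!
# The type of a Veronese subring of a Gorenstein ring
-/

universe u

open DirectSum TensorProduct
open Groth.Agent.GrLC21

noncomputable section

set_option linter.unusedSectionVars false
set_option backward.isDefEq.respectTransparency false

namespace Groth.Agent.Ver21

variable {R : Type u} [CommRing R] {𝒜 : ℤ → AddSubgroup R} [GradedRing 𝒜]
  {R' : Type u} [CommRing R'] {𝒜' : ℤ → AddSubgroup R'} [GradedRing 𝒜']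
  {φ : R' →+* R} {q : ℕ} {m : HomogeneousIdeal 𝒜} {m' : HomogeneousIdeal 𝒜'}
  {n : ℕ} {I : GrLC.StarInjRes 𝒜 𝒜}

set_option maxHeartbeats 1000000 in
include φ in
/-- The type of a Veronese subring of a standard graded Gorenstein ring. -/
theorem VCtx.type_eq_finrank_rem [LocCoh.IsGorensteinRing R] [m'.toIdeal.IsMaximal]
    (C : VCtx 𝒜 𝒜' φ q m m') (Γ : FieldCtx 𝒜 m) (hm' : GrLC.IsStarLocal 𝒜' m')
    (hstd : Ideal.span (⋃ n ∈ Set.Ioi (0 : ℤ), (𝒜 n : Set R)) = Ideal.span (𝒜 1 : Set R))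
    (hn : ringKrullDim R = n) {a : ℤ} (ha : GrLC.endDeg (I.Hgr m n) = ((a : WithTop ℤ) : WithBot (WithTop ℤ)))
    {ρ : ℤ} (hρ0 : 0 ≤ ρ) (hρq : ρ < q) (hρa : (q : ℤ) ∣ a - ρ) :
    GrLC.bassNum m'.toIdeal R' n = (Module.finrank (GrLC.deg0 𝒜) (GrLC.comp 𝒜 𝒜 ρ) : ℕ∞) := by
  haveI := isCohenMacaulayRing_of_gorenstein (R := R)
  have V := C.vdata
  have Γ' := V.fieldCtx Γ hm'
  haveI := V.isNoetherianRing
  haveI := C.isCohenMacaulayRing Γ.starLocal hm' Γ' hn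
  have hn' : ringKrullDim R' = n := (V.ringKrullDim_eq C.pos).trans hn
  obtain ⟨I'⟩ := nonempty_res (𝒜 := 𝒜') 𝒜'
  obtain ⟨E', e', he'⟩ := exists_residue_hull (𝒜 := 𝒜') m'
  obtain ⟨K', hK'⟩ := Γ'.exists_canonical he' n I'
  obtain ⟨h, hinj, hdeg⟩ := C.exists_shift_ver Γ hm' hn ha he' hK'
  rw [Γ'.type_eq_finrank he' hn' hK']
  congr 1
  obtain ⟨c, hc⟩ := hρa
  let j₀ : ℤ := -c
  have hj₀ : a + j₀ * q = ρ := by show a + -c * q = ρ; linarith
  have hgen : Submodule.span R' (K'.gr j₀ : Set K'.carrier) = ⊤ :=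
    S18672.result R 𝒜 (fun d hd => (AddSubgroup.eq_bot_iff_forall _).2 (C.pos d hd)) Γ.isField hstd q V.qpos R' 𝒜' φ
      V.inj (fun j => by ext x; exact (V.deg j x).symm) a K'.carrier K'.gr h hinj hdeg j₀ (by rw [hj₀]; exact hρ0)
      (by rw [show a + (j₀ - 1) * (q : ℤ) = ρ - q by linarith]; omega)
  have hlow : ∀ j, j < j₀ → ∀ y ∈ K'.gr j, y = 0 := fun j hj y hy => hinj (by
    have hm : h y ∈ (K'.gr j).map (h : K'.carrier →+ R) := ⟨y, hy, rfl⟩
    rw [hdeg] at hm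
    rw [map_zero]
    refine Γ.pos (a + j * q) ?_ (h y) hm
    nlinarith)
  have hmj : ∀ y ∈ (m'.toIdeal • ⊤ : Submodule R' K'.carrier), proj K'.gr j₀ y = 0 := by
    intro y hy
    refine Submodule.smul_induction_on hy (fun r hr x _ => ?_) fun u v hu hv => by rw [map_add, hu, hv, add_zero]
    rw [C.irr'] at hr
    refine Submodule.span_induction (p := fun r _ => ∀ x : K'.carrier, proj K'.gr j₀ (r • x) = 0) ?_ (by simp)
      (fun u v _ _ hu hv x => by rw [add_smul, map_add, hu, hv, add_zero])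
      (fun u v _ hv x => by rw [smul_assoc, smul_comm]; exact hv _) hr x
    rintro s hs x
    obtain ⟨e, he, hs⟩ := Set.mem_iUnion₂.1 hs
    rw [proj_smul 𝒜' K'.gr hs, hlow _ (by have : (0 : ℤ) < e := he; omega) _ (proj_mem K'.gr _ x), smul_zero]
  have hpre : ∀ x : GrLC.comp 𝒜 𝒜 ρ, ∃ y ∈ K'.gr j₀, h y = (x : R) := fun x => by
    have : (x : R) ∈ (K'.gr j₀).map (h : K'.carrier →+ R) := by rw [hdeg, hj₀]; exact x.2
    exact this
  choose pre hpre_mem hpre using hpre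
  let Q := TensorProduct.quotTensorEquivQuotSMul K'.carrier m'.toIdeal
  let π : GrLC.comp 𝒜 𝒜 ρ →+ (R' ⧸ m'.toIdeal) ⊗[R'] K'.carrier :=
    AddMonoidHom.mk' (fun x => (1 : R' ⧸ m'.toIdeal) ⊗ₜ[R'] pre x) fun x y => by
      rw [← TensorProduct.tmul_add]
      exact congrArg _ (hinj (by rw [map_add, hpre, hpre, hpre]; rfl))
  have hQ : ∀ x, Q (π x) = Submodule.Quotient.mk (pre x) := fun x => by
    show Q ((1 : R' ⧸ m'.toIdeal) ⊗ₜ[R'] pre x) = _
    rw [show (1 : R' ⧸ m'.toIdeal) = Ideal.Quotient.mk m'.toIdeal 1 from (map_one _).symm,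
      TensorProduct.quotTensorEquivQuotSMul_mk_tmul, one_smul]
  have hπ : Function.Bijective π := by
    refine ⟨(injective_iff_map_eq_zero π).2 fun x hx => Subtype.ext ?_, fun z => ?_⟩
    · have h0 : (Submodule.Quotient.mk (pre x) : K'.carrier ⧸ m'.toIdeal • (⊤ : Submodule R' K'.carrier)) = 0 := by
        rw [← hQ, hx, map_zero]
      have h1 := hmj _ ((Submodule.Quotient.mk_eq_zero _).1 h0)
      rw [proj_of_mem K'.gr (hpre_mem x)] at h1
      rw [← hpre x, h1, map_zero]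
      rfl
    · obtain ⟨y, hy⟩ := Submodule.Quotient.mk_surjective _ (Q z)
      have key : ∀ y ∈ Submodule.span R' (K'.gr j₀ : Set K'.carrier), ∃ x, Q (π x) = Submodule.Quotient.mk y := by
        intro y hy
        refine Submodule.span_induction (p := fun y _ => ∃ x, Q (π x) = Submodule.Quotient.mk y) ?_
          ⟨0, by rw [map_zero, map_zero, Submodule.Quotient.mk_zero]⟩ ?_ ?_ hy
        · intro y hy
          have hy' : h y ∈ 𝒜 ρ := by rw [← hj₀, ← hdeg]; exact ⟨y, hy, rfl⟩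
          refine ⟨⟨h y, hy'⟩, ?_⟩
          rw [hQ, show pre ⟨h y, hy'⟩ = y from hinj (hpre _)]
        · rintro u v _ _ ⟨a', ha'⟩ ⟨b', hb'⟩
          exact ⟨a' + b', by rw [map_add, map_add, ha', hb', Submodule.Quotient.mk_add]⟩
        · rintro r u _ ⟨a', ha'⟩
          have hc0 : φ (proj 𝒜' 0 r) * (a' : R) ∈ 𝒜 ρ := by
            have h := SetLike.mul_mem_graded (V.map_mem (proj_mem 𝒜' 0 r)) (show (a' : R) ∈ 𝒜 ρ from a'.2)
            rwa [zero_mul, zero_add] at h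
          refine ⟨⟨φ (proj 𝒜' 0 r) * (a' : R), hc0⟩, ?_⟩
          rw [hQ] at ha' ⊢
          have e1 : pre ⟨φ (proj 𝒜' 0 r) * (a' : R), hc0⟩ = proj 𝒜' 0 r • pre a' := hinj (by
            rw [hpre, map_smulₛₗ h, hpre, smul_eq_mul])
          rw [e1, Submodule.Quotient.mk_smul, ha', ← Submodule.Quotient.mk_smul, Submodule.Quotient.eq,
            ← sub_smul, ← neg_sub, neg_smul]
          exact Submodule.neg_mem _ (Submodule.smul_mem_smul (Γ'.sub_proj_zero_mem r) Submodule.mem_top)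
      obtain ⟨x, hx⟩ := key y (hgen ▸ Submodule.mem_top)
      exact ⟨x, Q.injective (hx.trans hy)⟩
  let i : GrLC.deg0 𝒜 → R' ⧸ m'.toIdeal := fun s => Ideal.Quotient.mk m'.toIdeal ((V.deg0Equiv.symm s : GrLC.deg0 𝒜') : R')
  have hi : Function.Bijective i := by
    refine ⟨fun s t hst => V.deg0Equiv.symm.injective (Subtype.ext (sub_eq_zero.1 ?_)), fun z => ?_⟩
    · exact Γ'.deg0_eq_zero (sub_mem (V.deg0Equiv.symm s).2 (V.deg0Equiv.symm t).2) (Ideal.Quotient.eq.1 hst)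
    · obtain ⟨r, rfl⟩ := Ideal.Quotient.mk_surjective z
      refine ⟨V.deg0Equiv ⟨proj 𝒜' 0 r, proj_mem 𝒜' 0 r⟩, ?_⟩
      show Ideal.Quotient.mk m'.toIdeal _ = _
      rw [RingEquiv.symm_apply_apply]
      exact (Ideal.Quotient.eq.2 (Γ'.sub_proj_zero_mem r)).symm
  unfold Module.finrank
  rw [rank_eq_of_equiv_equiv (R := GrLC.deg0 𝒜) (R' := R' ⧸ m'.toIdeal) i (AddEquiv.ofBijective π hπ) hi]
  intro s x
  show (1 : R' ⧸ m'.toIdeal) ⊗ₜ[R'] pre (s • x) = i s • ((1 : R' ⧸ m'.toIdeal) ⊗ₜ[R'] pre x)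
  have e1 : pre (s • x) = ((V.deg0Equiv.symm s : GrLC.deg0 𝒜') : R') • pre x := hinj (by
    rw [hpre, map_smulₛₗ h, hpre, ← V.deg0Equiv_coe, RingEquiv.apply_symm_apply]
    rfl)
  rw [e1, TensorProduct.smul_tmul', smul_eq_mul, mul_one, ← TensorProduct.smul_tmul]
  exact congrArg (· ⊗ₜ[R'] pre x) ((Algebra.smul_def _ _).trans (mul_one _))

end Groth.Agent.Ver21
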